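import Cfsg.Agent.Lib.HallSym.Classify
import Cfsg.Prelude.Def_HallClasses

/-!
# The Hall properties of symmetric and alternating groups
-/

set_option autoImplicit false
set_option linter.unusedSectionVars false

namespace CfsgLib.HallSym

open Equiv Equiv.Perm

section Generic
variable {G : Type*} [Group G] [Finite G] {π : Set ℕ}

/-- At most one prime of `π`, or every prime, divides the order. -/
def Triv (π : Set ℕ) (G : Type*) [Group G] : Prop :=
  (∀ r s : ℕ, r.Prime → s.Prime → r ∈ π → s ∈ π → r ∣ Nat.card G → s ∣ Nat.card G → r = s) ∨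
    ∀ r : ℕ, r.Prime → r ∣ Nat.card G → r ∈ π

theorem isPiHallOf_top {H : Subgroup G} : Cfsg.IsPiHallOf π H ⊤ ↔ Cfsg.IsPiHall π H := by
  simp [Cfsg.IsPiHallOf, Cfsg.IsPiHall, Subgroup.relIndex_top_right]

theorem maximal_of_hall {H : Subgroup G} (h : Cfsg.IsPiHall π H) :
    Maximal (Cfsg.IsPiSubgroup π) H :=
  ⟨h.1, fun _ hK hHK => (hall_eq_of_pi (isPiHallOf_top.2 h) le_top hHK hK).ge⟩

theorem exists_maximal {K : Subgroup G} (hK : Cfsg.IsPiSubgroup π K) :
    ∃ M : Subgroup G, K ≤ M ∧ Maximal (Cfsg.IsPiSubgroup π) M :=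
  Finite.exists_le_maximal hK

theorem card_map_conj (g : G) (H : Subgroup G) :
    Nat.card (H.map (MulAut.conj g).toMonoidHom) = Nat.card H :=
  Subgroup.card_map_of_injective (MulAut.conj g).injective

theorem hall_of_dpi (hD : Cfsg.IsDPiGroup π G) {M : Subgroup G}
    (hM : Maximal (Cfsg.IsPiSubgroup π) M) : Cfsg.IsPiHall π M := by
  refine ⟨hM.1, fun p hp hpπ hd => ?_⟩
  have : Fact p.Prime := ⟨hp⟩
  obtain ⟨P⟩ : Nonempty (Sylow p G) := inferInstance
  have hP : Cfsg.IsPiSubgroup π (P : Subgroup G) := fun q hq hqd => by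
    obtain ⟨k, hk⟩ := P.isPGroup'.exists_card_eq
    rw [hk] at hqd
    rwa [(Nat.prime_dvd_prime_iff_eq hq hp).1 (hq.dvd_of_dvd_pow hqd)]
  obtain ⟨M', hle, hM'⟩ := exists_maximal hP
  obtain ⟨g, rfl⟩ := hD M M' hM hM'
  refine P.not_dvd_index (hd.trans ?_)
  have e : (M.map (MulAut.conj g).toMonoidHom).index = M.index :=
    Subgroup.index_map_equiv M (MulAut.conj g)
  rw [← e]
  exact Subgroup.index_dvd_of_le hle

theorem cpi_of_dpi (hD : Cfsg.IsDPiGroup π G) : Cfsg.IsCPiGroup π G := by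
  obtain ⟨M, -, hM⟩ := exists_maximal (G := G) (π := π) (K := ⊥)
    (fun p hp hd => by rw [Subgroup.card_bot] at hd; exact absurd hd hp.not_dvd_one)
  exact ⟨⟨M, hall_of_dpi hD hM⟩, fun H K hH hK => hD H K (maximal_of_hall hH) (maximal_of_hall hK)⟩

theorem dpi_of_triv (h : Triv π G) : Cfsg.IsDPiGroup π G := by
  intro H K hH hK
  rcases h with h | h
  · by_cases hp : ∃ p : ℕ, p.Prime ∧ p ∈ π ∧ p ∣ Nat.card G
    · obtain ⟨p, hp, hpπ, hpd⟩ := hp
      have : Fact p.Prime := ⟨hp⟩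
      have key : ∀ L : Subgroup G, Cfsg.IsPiSubgroup π L ↔ IsPGroup p L := fun L => by
        refine ⟨fun hL => IsPGroup.of_card (Nat.eq_prime_pow_of_unique_prime_dvd Nat.card_pos.ne'
          fun {r} hr hd => h r p hr hp (hL r hr hd) hpπ (hd.trans L.card_subgroup_dvd_card) hpd),
          fun hL q hq hqd => ?_⟩
        obtain ⟨k, hk⟩ := hL.exists_card_eq
        rw [hk] at hqd
        rwa [(Nat.prime_dvd_prime_iff_eq hq hp).1 (hq.dvd_of_dvd_pow hqd)]
      let P : ∀ L : Subgroup G, Maximal (Cfsg.IsPiSubgroup π) L → Sylow p G := fun L hL =>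
        { L with
          isPGroup' := (key L).1 hL.1
          is_maximal' := fun {Q} hQ hle => le_antisymm (hL.2 ((key Q).2 hQ) hle) hle }
      obtain ⟨g, hg⟩ := MulAction.exists_smul_eq G (P H hH) (P K hK)
      exact ⟨g, (congrArg Sylow.toSubgroup hg).symm.trans Sylow.coe_subgroup_smul⟩
    · have key : ∀ L : Subgroup G, Cfsg.IsPiSubgroup π L → L = ⊥ := fun L hL =>
        Subgroup.eq_bot_of_card_eq L (by
          by_contra hne
          obtain ⟨q, hq, hqd⟩ := Nat.exists_prime_and_dvd hne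
          exact hp ⟨q, hq, hL q hq hqd, hqd.trans L.card_subgroup_dvd_card⟩)
      exact ⟨1, by rw [key H hH.1, key K hK.1, Subgroup.map_bot]⟩
  · have key : ∀ L : Subgroup G, Maximal (Cfsg.IsPiSubgroup π) L → L = ⊤ := fun L hL =>
      top_le_iff.1 (hL.2 (fun p hp hd => h p hp (by rwa [Subgroup.card_top] at hd)) le_top)
    exact ⟨1, by rw [key H hH, key K hK, Subgroup.map_top_of_surjective _ (MulAut.conj (1 : G)).surjective]⟩

end Generic

variable {n : ℕ} {π : Set ℕ}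

theorem triv_of_not_T (hT : ¬ T π n) (X : Subgroup (Perm (Fin n))) : Triv π X := by
  have key : ∀ r : ℕ, r.Prime → r ∣ Nat.card X → r ≤ n := fun r hr hd => by
    have := hd.trans X.card_subgroup_dvd_card
    rw [Nat.card_perm, Nat.card_fin] at this
    exact hr.dvd_factorial.1 this
  by_contra hc
  simp only [Triv, not_or, not_forall] at hc
  obtain ⟨⟨r, s, hr, hs, hrπ, hsπ, hrd, hsd, hne⟩, t, ht, htd, htπ⟩ := hc
  exact hT ⟨⟨r, s, hr, hs, hne, hrπ, hsπ, key r hr hrd, key s hs hsd⟩, t, ht, key t ht htd, htπ⟩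

theorem triv_perm_of_not_T (hT : ¬ T π n) : Triv π (Perm (Fin n)) := by
  have := triv_of_not_T hT ⊤
  simpa [Triv, Subgroup.card_top] using this

theorem not_triv_alt (hT : T π n) : ¬ Triv π (alternatingGroup (Fin n)) := by
  have h5 := hT.five_le
  obtain ⟨⟨r, s, hr, hs, hne, hrπ, hsπ, hrn, hsn⟩, t, ht, htn, htπ⟩ := hT
  have key : ∀ q : ℕ, q.Prime → q ≤ n → q ∣ Nat.card (alternatingGroup (Fin n)) := fun q hq hqn =>
    dvd_card_alt hq (by simpa using hqn) (by simp; omega)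
  rintro (h | h)
  · exact hne (h r s hr hs hrπ hsπ (key r hr hrn) (key s hs hsn))
  · exact htπ (h t ht (key t ht htn))

theorem hall_of_index_35 {K : Subgroup (Perm (Fin n))} (hn : n = 7 ∨ n = 8)
    (hiff : ∀ r : ℕ, r.Prime → r ≤ n → (r ∈ π ↔ (r = 2 ∨ r = 3))) (hidx : K.index = 35) :
    Cfsg.IsPiHall π K := by
  have hcard := K.card_mul_index
  rw [Nat.card_perm, Nat.card_fin, hidx] at hcard
  refine ⟨fun p hp hd => ?_, fun p hp hpπ hd => ?_⟩
  · have h1 : p ∣ 2 ^ 7 * 3 ^ 2 := hd.trans (by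
      rcases hn with rfl | rfl <;> norm_num [Nat.factorial] at hcard
      · exact ⟨8, by omega⟩
      · exact ⟨1, by omega⟩)
    rcases hp.dvd_mul.1 h1 with h2 | h2
    · obtain rfl := (Nat.prime_dvd_prime_iff_eq hp Nat.prime_two).1 (hp.dvd_of_dvd_pow h2)
      exact (hiff 2 hp (by omega)).2 (Or.inl rfl)
    · obtain rfl := (Nat.prime_dvd_prime_iff_eq hp Nat.prime_three).1 (hp.dvd_of_dvd_pow h2)
      exact (hiff 3 hp (by omega)).2 (Or.inr rfl)
  · rw [hidx] at hd
    rcases hp.dvd_mul.1 (show p ∣ 5 * 7 from hd) with h2 | h2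
    · obtain rfl := (Nat.prime_dvd_prime_iff_eq hp (by norm_num)).1 h2
      simp [hiff 5 hp (by omega)] at hpπ
    · obtain rfl := (Nat.prime_dvd_prime_iff_eq hp (by norm_num)).1 h2
      simp [hiff 7 hp (by omega)] at hpπ

/-- A Hall subgroup of one of the standard shapes. -/
theorem stdK_hall {a : ℕ} {pr : Bool} {R : Finset (Fin n)} (hstd : Std π n a pr)
    (hR : R.card = a) : Cfsg.IsPiHall π (stdK pr R) := by
  subst hR
  have hcard := (stdK pr R).card_mul_index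
  rw [Nat.card_perm, Nat.card_fin] at hcard
  rcases hstd with ⟨hn, hiff, ha, rfl⟩ | ⟨rfl, hiff, ha, rfl⟩ | ⟨rfl, hiff, ha, rfl⟩
  · have hidx : (stdK false R).index = n := by
      rw [index_stdK_false, Fintype.card_fin]
      rw [← Nat.choose_symm (by omega), show n - R.card = 1 by omega, Nat.choose_one_right]
    refine ⟨fun p hp hd => ?_, fun p hp hpπ hd => ?_⟩
    · rw [card_stdK_false, Fintype.card_fin, show n - R.card = 1 by omega, Nat.factorial_one,
        mul_one] at hd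
      have := hp.dvd_factorial.1 hd
      exact (hiff p hp (by omega)).2 (by omega)
    · rw [hidx] at hd
      have e := (Nat.prime_dvd_prime_iff_eq hp hn).1 hd
      exact absurd ((hiff p hp e.le).1 hpπ) (by omega)
  · refine hall_of_index_35 (Or.inl rfl) hiff ?_
    rw [index_stdK_false, Fintype.card_fin, ha]; decide
  · refine hall_of_index_35 (Or.inr rfl) hiff ?_
    have := index_stdK_true (R := R) (by simp [ha]) (by omega)
    rw [Fintype.card_fin, ha, show Nat.choose 8 4 = 70 by decide] at this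
    omega

theorem std_unique {a a' : ℕ} {pr pr' : Bool} (hT : T π n) (h : Std π n a pr)
    (h' : Std π n a' pr') : a = a' ∧ pr = pr' := by
  have := hT.five_le
  rcases h with ⟨hn, hi, ha, rfl⟩ | ⟨rfl, hi, ha, rfl⟩ | ⟨rfl, hi, ha, rfl⟩ <;>
    rcases h' with ⟨hn', hi', ha', rfl⟩ | ⟨e, hi', ha', rfl⟩ | ⟨e, hi', ha', rfl⟩
  all_goals first
    | exact ⟨by omega, rfl⟩
    | omega
    | exact absurd hn (by subst e; decide)
    | exact absurd hn' (by decide)
    | (exfalso; subst e; have h1 := hi 5 (by norm_num) (by norm_num); have h2 := hi' 5 (by norm_num) (by norm_num); norm_num at h1 h2; tauto)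
    | (exfalso; have h1 := hi 5 (by norm_num) (by norm_num); have h2 := hi' 5 (by norm_num) (by norm_num); norm_num at h1 h2; tauto)

variable {X H : Subgroup (Perm (Fin n))}

theorem hall_iff (hT : T π n) (hX : Par X) :
    Cfsg.IsPiHallOf π H X ↔
      ∃ a pr, ∃ R : Finset (Fin n), Std π n a pr ∧ R.card = a ∧ H = X ⊓ stdK pr R := by
  have h5 := hT.five_le
  constructor
  · intro h
    obtain ⟨a, pr, R, hstd, hR, hle⟩ := classify π n (Fin n) (Fintype.card_fin n) X H hX h hT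
    exact ⟨a, pr, R, hstd, hR, hall_eq_of_pi h inf_le_left (le_inf h.1 hle) fun p hp hd =>
      (stdK_hall hstd hR).1 p hp (hd.trans (Subgroup.card_dvd_of_le inf_le_right))⟩
  · rintro ⟨a, pr, R, hstd, hR, rfl⟩
    refine ⟨inf_le_left, fun p hp hd =>
      (stdK_hall hstd hR).1 p hp (hd.trans (Subgroup.card_dvd_of_le inf_le_right)), ?_⟩
    rw [hX.relIndex_inf (exists_odd_mem pr R (by simp; omega))]
    exact (stdK_hall hstd hR).2

theorem exists_hall_iff (hT : T π n) (hX : Par X) :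
    (∃ H, Cfsg.IsPiHallOf π H X) ↔ ∃ a pr, Std π n a pr := by
  constructor
  · rintro ⟨H, h⟩
    obtain ⟨a, pr, -, hstd, -⟩ := (hall_iff hT hX).1 h
    exact ⟨a, pr, hstd⟩
  · rintro ⟨a, pr, hstd⟩
    have ha : a ≤ n := by rcases hstd with ⟨-, -, h, -⟩ | ⟨h', -, h, -⟩ | ⟨h', -, h, -⟩ <;> omega
    obtain ⟨R, -, hR⟩ := Finset.exists_subset_card_eq (s := (Finset.univ : Finset (Fin n))) (n := a)
      (by simpa using ha)
    exact ⟨_, (hall_iff hT hX).2 ⟨a, pr, R, hstd, hR, rfl⟩⟩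

theorem hall_conj (hT : T π n) (hX : Par X) {H' : Subgroup (Perm (Fin n))}
    (h : Cfsg.IsPiHallOf π H X) (h' : Cfsg.IsPiHallOf π H' X) :
    ∃ g ∈ X, H' = H.map (MulAut.conj g).toMonoidHom := by
  obtain ⟨a, pr, R, hstd, hR, rfl⟩ := (hall_iff hT hX).1 h
  obtain ⟨a', pr', R', hstd', hR', rfl⟩ := (hall_iff hT hX).1 h'
  obtain ⟨rfl, rfl⟩ := std_unique hT hstd hstd'
  obtain ⟨σ, hσ⟩ := exists_perm_image (hR.trans hR'.symm)
  have hconj : ∀ g, σ * g * σ⁻¹ ∈ stdK pr R' ↔ g ∈ stdK pr R := fun g => by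
    show (_ ∨ _) ↔ (_ ∨ _)
    have e : ∀ y, (σ * g * σ⁻¹) (σ y) ∈ R' ↔ g y ∈ R := fun y => by simp [Perm.mul_apply, hσ]
    constructor
    · rintro (h1 | ⟨hp, h1⟩)
      · exact Or.inl fun y => (e y).symm.trans ((h1 (σ y)).trans (hσ y))
      · exact Or.inr ⟨hp, fun y => (e y).symm.trans ((h1 (σ y)).trans (not_congr (hσ y)))⟩
    · rintro (h1 | ⟨hp, h1⟩)
      · exact Or.inl (σ.surjective.forall.2 fun y => (e y).trans ((h1 y).trans (hσ y).symm))
      · exact Or.inr ⟨hp,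
          σ.surjective.forall.2 fun y => (e y).trans ((h1 y).trans (not_congr (hσ y)).symm)⟩
  obtain ⟨τ, hτ, hs⟩ := exists_odd_mem pr R' (by simp; have := hT.five_le; omega)
  obtain ⟨g, hg, hgconj⟩ : ∃ g ∈ X, ∀ k, g * k * g⁻¹ ∈ stdK pr R' ↔ k ∈ stdK pr R := by
    rcases Int.units_eq_one_or (sign σ) with h1 | h1
    · exact ⟨σ, hX.alt_le (mem_alternatingGroup.2 h1), hconj⟩
    · refine ⟨τ * σ, hX.alt_le (mem_alternatingGroup.2 (by rw [map_mul, h1, hs]; rfl)), fun k => ?_⟩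
      rw [show τ * σ * k * (τ * σ)⁻¹ = τ * (σ * k * σ⁻¹) * τ⁻¹ by group,
        Subgroup.mul_mem_cancel_right _ ((stdK pr R').inv_mem hτ),
        Subgroup.mul_mem_cancel_left _ hτ, hconj]
  refine ⟨g, hg, ?_⟩
  ext k
  rw [Subgroup.mem_map]
  constructor
  · rintro ⟨hkX, hk⟩
    refine ⟨g⁻¹ * k * g, ⟨X.mul_mem (X.mul_mem (X.inv_mem hg) hkX) hg, (hgconj _).1 ?_⟩, ?_⟩
    · simpa [mul_assoc] using hk
    · simp [mul_assoc]
  · rintro ⟨k', ⟨hkX, hk⟩, rfl⟩
    exact ⟨X.mul_mem (X.mul_mem hg hkX) (X.inv_mem hg), (hgconj _).2 hk⟩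

theorem isPiHall_iff_map {M : Subgroup X} :
    Cfsg.IsPiHall π M ↔ Cfsg.IsPiHallOf π (M.map X.subtype) X := by
  have e1 : Nat.card (M.map X.subtype) = Nat.card M :=
    Subgroup.card_map_of_injective X.subtype_injective
  have e2 : (M.map X.subtype).relIndex X = M.index := by
    rw [Subgroup.relIndex, Subgroup.subgroupOf,
      Subgroup.comap_map_eq_self_of_injective X.subtype_injective]
  unfold Cfsg.IsPiHall Cfsg.IsPiHallOf
  rw [e1, e2]
  exact ⟨fun h => ⟨Subgroup.map_subtype_le M, h⟩, fun h => h.2⟩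

theorem exists_hall_sub_iff (hT : T π n) (hX : Par X) :
    Cfsg.IsEPiGroup π X ↔ ∃ a pr, Std π n a pr := by
  rw [← exists_hall_iff hT hX]
  constructor
  · rintro ⟨M, hM⟩
    exact ⟨_, isPiHall_iff_map.1 hM⟩
  · rintro ⟨H, hH⟩
    exact ⟨H.subgroupOf X, by rwa [isPiHall_iff_map, Subgroup.map_subgroupOf_eq_of_le hH.1]⟩

theorem exists_hall_perm_iff (hT : T π n) :
    Cfsg.IsEPiGroup π (Perm (Fin n)) ↔ ∃ a pr, Std π n a pr := by
  rw [← exists_hall_iff hT (Or.inl rfl : Par (⊤ : Subgroup (Perm (Fin n))))]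
  simp only [isPiHallOf_top, Cfsg.IsEPiGroup]

theorem cpi_perm (hT : T π n) (hE : Cfsg.IsEPiGroup π (Perm (Fin n))) :
    Cfsg.IsCPiGroup π (Perm (Fin n)) := by
  refine ⟨hE, fun H K hH hK => ?_⟩
  obtain ⟨g, -, hg⟩ := hall_conj hT (Or.inl rfl) (isPiHallOf_top.2 hH) (isPiHallOf_top.2 hK)
  exact ⟨g, hg⟩

theorem cpi_sub (hT : T π n) (hX : Par X) (hE : Cfsg.IsEPiGroup π X) : Cfsg.IsCPiGroup π X := by
  refine ⟨hE, fun M M' hM hM' => ?_⟩
  obtain ⟨g, hg, he⟩ := hall_conj hT hX (isPiHall_iff_map.1 hM) (isPiHall_iff_map.1 hM')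
  refine ⟨⟨g, hg⟩, Subgroup.map_injective X.subtype_injective ?_⟩
  rw [he, Subgroup.map_map, Subgroup.map_map]
  rfl

end CfsgLib.HallSym
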