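import Mathlib
import Cfsg.Prelude.Def_OddOrderLocal

/-!
# Hall subgroups of symmetric and alternating groups: generalities

`Par X` says that `X` is the symmetric or the alternating group, `stdK pr R` is the stabilizer of
the set `R` (for `pr = false`) or of the pair `{R, Rᶜ}` (for `pr = true`).
-/

set_option autoImplicit false
set_option linter.unusedSectionVars false
set_option linter.unusedSimpArgs false

namespace CfsgLib.HallSym

open Equiv Equiv.Perm

section General
variable {G L : Type*} [Group G] [Group L]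

theorem card_mul_relIndex {H K : Subgroup G} (h : H ≤ K) :
    Nat.card H * H.relIndex K = Nat.card K := by
  rw [← Subgroup.relIndex_bot_left, ← Subgroup.relIndex_bot_left,
    Subgroup.relIndex_mul_relIndex _ _ _ bot_le h]

theorem relIndex_map_dvd (f : G →* L) {H X : Subgroup G} (h : H ≤ X) :
    (H.map f).relIndex (X.map f) ∣ H.relIndex X := by
  have e : (H.subgroupOf X).map (f.subgroupMap X) = (H.map f).subgroupOf (X.map f) := by
    ext y
    simp only [Subgroup.mem_map, Subgroup.mem_subgroupOf]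
    constructor
    · rintro ⟨a, ha, rfl⟩
      exact ⟨a.1, ha, rfl⟩
    · rintro ⟨a, ha, hy⟩
      exact ⟨⟨a, h ha⟩, ha, Subtype.ext hy⟩
  rw [Subgroup.relIndex, ← e]
  exact Subgroup.index_map_dvd _ (f.subgroupMap_surjective X)

theorem isPiHallOf_map {π : Set ℕ} (f : G →* L) {H X : Subgroup G}
    (h : Cfsg.IsPiHallOf π H X) : Cfsg.IsPiHallOf π (H.map f) (X.map f) :=
  ⟨Subgroup.map_mono h.1, fun p hp hd => h.2.1 p hp (hd.trans (H.card_map_dvd f)),
    fun p hp hπ hd => h.2.2 p hp hπ (hd.trans (relIndex_map_dvd f h.1))⟩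

theorem isPiHallOf_subgroupOf {π : Set ℕ} {H X K : Subgroup G} (h : Cfsg.IsPiHallOf π H (X ⊓ K)) :
    Cfsg.IsPiHallOf π (H.subgroupOf K) (X.subgroupOf K) := by
  refine ⟨fun g hg => (h.1 hg).1, fun p hp hd => h.2.1 p hp ?_, fun p hp hπ hd => h.2.2 p hp hπ ?_⟩
  · rwa [← Nat.card_congr (Subgroup.subgroupOfEquivOfLe (h.1.trans inf_le_right)).toEquiv]
  · have e : (H.subgroupOf K).relIndex (X.subgroupOf K) = H.relIndex (X ⊓ K) := by
      rw [← Subgroup.subgroupOf_map_subtype]
      exact Subgroup.relIndex_comap _ _ _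
    rwa [← e]

theorem isPiHallOf_of_le {π : Set ℕ} {H X Y : Subgroup G} (h : Cfsg.IsPiHallOf π H X)
    (hY : Y ≤ X) (hHY : H ≤ Y) : Cfsg.IsPiHallOf π H Y :=
  ⟨hHY, h.2.1, fun p hp hπ hd =>
    h.2.2 p hp hπ (hd.trans ⟨_, (Subgroup.relIndex_mul_relIndex _ _ _ hHY hY).symm⟩)⟩

theorem hall_eq_of_pi [Finite G] {π : Set ℕ} {H X Y : Subgroup G} (h : Cfsg.IsPiHallOf π H X)
    (hY : Y ≤ X) (hHY : H ≤ Y) (hYπ : ∀ p : ℕ, p.Prime → p ∣ Nat.card Y → p ∈ π) : H = Y := by
  refine le_antisymm hHY (Subgroup.relIndex_eq_one.1 ?_)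
  by_contra hne
  obtain ⟨p, hp, hd⟩ := Nat.exists_prime_and_dvd hne
  have hd2 : p ∣ Nat.card Y := hd.trans ⟨_, ((card_mul_relIndex hHY).symm.trans (mul_comm _ _))⟩
  exact (isPiHallOf_of_le h hY hHY).2.2 p hp (hYπ p hp hd2) hd

theorem exists_conj_mem [Finite G] {π : Set ℕ} {H X : Subgroup G} (h : Cfsg.IsPiHallOf π H X)
    {g : G} (hg : g ∈ X) {q : ℕ} (hq : q.Prime) (hqπ : q ∈ π) (hord : orderOf g = q) :
    ∃ x ∈ X, x * g * x⁻¹ ∈ H := by
  have : Fact q.Prime := ⟨hq⟩
  let g' : X := ⟨g, hg⟩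
  have hP : IsPGroup q (Subgroup.zpowers g') := IsPGroup.of_card (n := 1) (by
    rw [Nat.card_zpowers, pow_one, ← hord]; exact Subgroup.orderOf_mk g hg)
  obtain ⟨c, hc⟩ := hP.nonempty_fixed_point_of_prime_not_dvd_card (X ⧸ H.subgroupOf X)
    (h.2.2 q hq hqπ)
  obtain ⟨x, rfl⟩ := QuotientGroup.mk_surjective c
  have h2 : ((g' * x : X) : X ⧸ H.subgroupOf X) = (x : X ⧸ H.subgroupOf X) :=
    hc ⟨g', Subgroup.mem_zpowers g'⟩
  rw [eq_comm, QuotientGroup.eq, Subgroup.mem_subgroupOf] at h2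
  refine ⟨(x⁻¹ : X).1, (x⁻¹ : X).2, ?_⟩
  simpa [mul_assoc] using h2

end General

variable {α : Type} [Fintype α] [DecidableEq α]

/-- The stabilizer of `R`, or (for `pr = true`) of the pair `{R, Rᶜ}`. -/
def stdK (pr : Bool) (R : Finset α) : Subgroup (Perm α) where
  carrier := {g | (∀ y, g y ∈ R ↔ y ∈ R) ∨ (pr = true ∧ ∀ y, g y ∈ R ↔ y ∉ R)}
  one_mem' := Or.inl fun _ => Iff.rfl
  mul_mem' := by
    rintro g h (hg | ⟨hp, hg⟩) (hh | ⟨hp', hh⟩)
    · exact Or.inl fun y => (hg _).trans (hh y)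
    · exact Or.inr ⟨hp', fun y => (hg _).trans (hh y)⟩
    · exact Or.inr ⟨hp, fun y => (hg _).trans (not_congr (hh y))⟩
    · exact Or.inl fun y => (hg _).trans ((not_congr (hh y)).trans not_not)
  inv_mem' := by
    rintro g (hg | ⟨hp, hg⟩)
    · exact Or.inl fun y => by simpa using (hg (g⁻¹ y)).symm
    · exact Or.inr ⟨hp, fun y => by
        have := hg (g⁻¹ y)
        rw [Perm.coe_inv, Equiv.apply_symm_apply] at this
        rw [Perm.coe_inv]
        exact ⟨fun h hy => this.1 hy h, fun h => by_contra fun h' => h (this.2 h')⟩⟩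

theorem mem_stdK_false {R : Finset α} {g : Perm α} :
    g ∈ stdK false R ↔ ∀ y, g y ∈ R ↔ y ∈ R := by
  show (_ ∨ (false = true ∧ _)) ↔ _
  simp

theorem stdK_false_le (pr : Bool) (R : Finset α) : stdK false R ≤ stdK pr R :=
  fun _ hg => Or.inl (mem_stdK_false.1 hg)

theorem stdK_compl (R : Finset α) : stdK false R = stdK false Rᶜ := by
  ext g; simp [mem_stdK_false, not_iff_not]

theorem mem_stdK_erase {x : α} {g : Perm α} :
    g ∈ stdK false (Finset.univ.erase x) ↔ g x = x := by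
  rw [mem_stdK_false]
  simp only [Finset.mem_erase, Finset.mem_univ, and_true, ne_eq, not_iff_not]
  exact ⟨fun h => (h x).2 rfl, fun h y => ⟨fun hy => g.injective (hy.trans h.symm), fun hy => hy ▸ h⟩⟩

/-- Restriction to the invariant set. -/
def restrict (R : Finset α) : stdK false R →* Perm {y : α // y ∈ R} where
  toFun g := g.1.subtypePerm (mem_stdK_false.1 g.2)
  map_one' := by ext; rfl
  map_mul' g h := by ext; rfl

theorem card_stdK_false (R : Finset α) :
    Nat.card (stdK false R) = R.card.factorial * (Fintype.card α - R.card).factorial := by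
  have e : stdK false R = (subtypeCongrHom (fun y => y ∈ R)).range := by
    ext g
    constructor
    · intro hg
      have h := mem_stdK_false.1 hg
      refine ⟨(g.subtypePerm h, g.subtypePerm fun y => not_congr (h y)), ?_⟩
      ext y
      by_cases hy : y ∈ R <;> simp [subtypeCongrHom, Perm.subtypeCongr.apply, hy]
    · rintro ⟨⟨a, b⟩, rfl⟩
      refine mem_stdK_false.2 fun y => ?_
      by_cases hy : y ∈ R
      · simp [subtypeCongrHom, Perm.subtypeCongr.apply, hy, (a ⟨y, hy⟩).2]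
      · simp [subtypeCongrHom, Perm.subtypeCongr.apply, hy, (b ⟨y, hy⟩).2]
  rw [e, ← Nat.card_congr (MonoidHom.ofInjective (subtypeCongrHom_injective _)).toEquiv,
    Nat.card_prod, Nat.card_perm, Nat.card_perm, Nat.card_eq_fintype_card, Nat.card_eq_fintype_card,
    Fintype.card_subtype_compl, Fintype.card_coe]

theorem index_stdK_false (R : Finset α) :
    (stdK false R).index = (Fintype.card α).choose R.card := by
  have h := (stdK false R).card_mul_index
  rw [card_stdK_false, Nat.card_perm, Nat.card_eq_fintype_card,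
    ← Nat.choose_mul_factorial_mul_factorial R.card_le_univ] at h
  exact Nat.eq_of_mul_eq_mul_left (Nat.mul_pos (Nat.factorial_pos _) (Nat.factorial_pos _))
    (h.trans (by ring))

theorem exists_odd_mem (pr : Bool) (R : Finset α) (h3 : 3 ≤ Fintype.card α) :
    ∃ t ∈ stdK pr R, sign t = -1 := by
  have key : ∀ S : Finset α, 2 ≤ S.card → ∃ t ∈ stdK false S, sign t = -1 := by
    intro S hS
    obtain ⟨a, ha, b, hb, hab⟩ := Finset.one_lt_card.1 hS
    refine ⟨swap a b, mem_stdK_false.2 fun y => ?_, sign_swap hab⟩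
    rcases eq_or_ne y a with rfl | hya
    · simp [ha, hb]
    rcases eq_or_ne y b with rfl | hyb
    · simp [ha, hb]
    rw [swap_apply_of_ne_of_ne hya hyb]
  rcases Nat.lt_or_ge R.card 2 with h | h
  · obtain ⟨t, ht, hs⟩ := key Rᶜ (by rw [Finset.card_compl]; omega)
    exact ⟨t, stdK_false_le pr R (by rw [stdK_compl]; exact ht), hs⟩
  · obtain ⟨t, ht, hs⟩ := key R h
    exact ⟨t, stdK_false_le pr R ht, hs⟩

/-- `X` is the symmetric or the alternating group. -/
def Par (X : Subgroup (Perm α)) : Prop := X = ⊤ ∨ X = alternatingGroup α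

theorem Par.alt_le {X : Subgroup (Perm α)} (hX : Par X) : alternatingGroup α ≤ X := by
  rcases hX with rfl | rfl
  · exact le_top
  · exact le_rfl

theorem par_of_alt_le {Y : Subgroup (Perm α)} (h : alternatingGroup α ≤ Y) : Par Y := by
  by_cases hodd : ∃ y ∈ Y, sign y = -1
  · obtain ⟨y, hy, hs⟩ := hodd
    refine Or.inl (eq_top_iff.2 fun z _ => ?_)
    rcases Int.units_eq_one_or (sign z) with hz | hz
    · exact h (mem_alternatingGroup.2 hz)
    · have : z * y ∈ Y := h (mem_alternatingGroup.2 (by rw [map_mul, hz, hs]; rfl))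
      simpa using Y.mul_mem this (Y.inv_mem hy)
  · refine Or.inr (le_antisymm (fun y hy => mem_alternatingGroup.2 ?_) h)
    rcases Int.units_eq_one_or (sign y) with hz | hz
    · exact hz
    · exact absurd ⟨y, hy, hz⟩ hodd

theorem Par.relIndex_inf {X : Subgroup (Perm α)} (hX : Par X) {K : Subgroup (Perm α)}
    (hK : ∃ t ∈ K, sign t = -1) : (X ⊓ K).relIndex X = K.index := by
  rw [Subgroup.inf_relIndex_left]
  rcases hX with rfl | rfl
  · exact K.relIndex_top_right
  obtain ⟨t, ht, hs⟩ := hK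
  have hA : (alternatingGroup α).relIndex K = 2 := by
    refine Subgroup.relIndex_eq_two_iff.2 ⟨t, ht, fun b _ => ?_⟩
    simp only [mem_alternatingGroup, map_mul, hs]
    rcases Int.units_eq_one_or (sign b) with hb | hb <;> simp [hb, Xor]
  have h2 : (alternatingGroup α).index = 2 := by
    have : Nontrivial α := by
      by_contra hn
      rw [not_nontrivial_iff_subsingleton] at hn
      rw [Subsingleton.elim t 1, map_one] at hs
      exact absurd hs (by decide)
    exact alternatingGroup.index_eq_two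
  have e := Subgroup.inf_relIndex_right (alternatingGroup α) K
  have e1 := Subgroup.relIndex_mul_index (inf_le_right (a := alternatingGroup α) (b := K))
  have e2 := Subgroup.relIndex_mul_index (inf_le_left (a := alternatingGroup α) (b := K))
  rw [e, hA] at e1
  rw [Subgroup.inf_relIndex_left, h2] at e2
  omega

theorem par_image {X : Subgroup (Perm α)} (hX : Par X) (R : Finset α) :
    Par ((X.subgroupOf (stdK false R)).map (restrict R)) := by
  refine par_of_alt_le fun σ hσ => ?_
  refine ⟨⟨ofSubtype σ, mem_stdK_false.2 fun y => ofSubtype_apply_mem_iff_mem σ y⟩, ?_, ?_⟩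
  · show ofSubtype σ ∈ X
    refine hX.alt_le ?_
    rw [mem_alternatingGroup] at hσ ⊢
    rw [sign_ofSubtype, hσ]
  · ext y
    show ofSubtype σ y.1 = _
    rw [ofSubtype_apply_coe]

theorem isPiHallOf_image {π : Set ℕ} {H X : Subgroup (Perm α)} {R : Finset α}
    (h : Cfsg.IsPiHallOf π H (X ⊓ stdK false R)) :
    Cfsg.IsPiHallOf π ((H.subgroupOf (stdK false R)).map (restrict R))
      ((X.subgroupOf (stdK false R)).map (restrict R)) :=
  isPiHallOf_map _ (isPiHallOf_subgroupOf h)

theorem exists_perm_image {R R' : Finset α} (h : R.card = R'.card) :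
    ∃ σ : Perm α, ∀ y, σ y ∈ R' ↔ y ∈ R := by
  let e : {y // y ∈ R} ≃ {y // y ∈ R'} := Fintype.equivOfCardEq (by simp [h])
  refine ⟨e.extendSubtype, fun y => ⟨fun hy => by_contra fun hR => ?_, fun hy => e.extendSubtype_mem y hy⟩⟩
  exact e.extendSubtype_not_mem y hR hy

theorem index_stdK_true {R : Finset α} (h : 2 * R.card = Fintype.card α) (h0 : 0 < R.card) :
    2 * (stdK true R).index = (Fintype.card α).choose R.card := by
  rw [← index_stdK_false, ← Subgroup.relIndex_mul_index (stdK_false_le true R)]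
  congr 1
  obtain ⟨σ, hσ⟩ := exists_perm_image (R := R) (R' := Rᶜ) (by rw [Finset.card_compl]; omega)
  have hσ' : ∀ y, σ y ∈ R ↔ y ∉ R := fun y => by
    have := hσ y
    rw [Finset.mem_compl] at this
    exact ⟨fun h1 h2 => this.2 h2 h1, fun h1 => by_contra fun h2 => h1 (this.1 h2)⟩
  obtain ⟨a, ha⟩ := Finset.card_pos.1 h0
  symm
  refine Subgroup.relIndex_eq_two_iff.2 ⟨σ, Or.inr ⟨rfl, hσ'⟩, fun b hb => ?_⟩
  rw [mem_stdK_false, mem_stdK_false]
  rcases hb with hb | ⟨-, hb⟩
  · refine Or.inr ⟨hb, fun h2 => ?_⟩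
    exact ((hσ' a).1 ((hb (σ a)).1 ((h2 a).2 ha))) ha
  · refine Or.inl ⟨fun y => ?_, fun h2 => ?_⟩
    · exact (hb (σ y)).trans ((not_congr (hσ' y)).trans not_not)
    · exact (hb a).1 ((h2 a).2 ha) ha

theorem exists_cycle_mem {π : Set ℕ} {H X : Subgroup (Perm α)} (hX : Par X)
    (h : Cfsg.IsPiHallOf π H X) {q : ℕ} (hq : q.Prime) (hq2 : q ≠ 2) (hqπ : q ∈ π)
    (hqn : q ≤ Fintype.card α) : ∃ σ ∈ H, σ.IsCycle ∧ σ.support.card = q := by
  obtain ⟨g, hg⟩ := (Equiv.Perm.exists_with_cycleType_iff α (m := {q})).2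
    ⟨by simpa using hqn, by simpa using hq.two_le⟩
  have hgA : g ∈ X := hX.alt_le (by
    rw [mem_alternatingGroup, sign_of_cycleType, hg]
    simp [pow_succ, (hq.odd_of_ne_two hq2).neg_one_pow])
  have hord : orderOf g = q := by rw [← lcm_cycleType, hg]; simp
  obtain ⟨x, -, hx⟩ := exists_conj_mem h hgA hq hqπ hord
  refine ⟨_, hx, ?_, ?_⟩
  · rw [← card_cycleType_eq_one, cycleType_conj, hg]; simp
  · rw [← sum_cycleType, cycleType_conj, hg]; simp

end CfsgLib.HallSym
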