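import Mathlib

/-!
# Binomial coefficients without small prime factors

For `2 ≤ k ≤ m` the number `C(m + k, k)` has a prime factor at most `m` except for `C(7, 3)`.
The proof is elementary: such an exception makes `m + k` and `m + 1` prime, and then the composite
numbers next to them divide products of few factors.
-/

set_option autoImplicit false
set_option synthInstance.maxSize 2000

namespace CfsgLib.HallSym

theorem small_of_even {x m q : ℕ} (hm : 2 ≤ m) (hx : 2 ∣ x) (hx0 : 0 < x) (hxm : x ≤ 2 * m)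
    (hq : q.Prime) (hqx : q ∣ x) : q ≤ m := by
  rcases eq_or_ne q 2 with rfl | h2
  · exact hm
  · obtain ⟨t, rfl⟩ := hx
    have : q ∣ t :=
      ((Nat.coprime_primes hq Nat.prime_two).2 h2).dvd_of_dvd_mul_left hqx
    exact (Nat.le_of_dvd (by omega) this).trans (by omega)

theorem small_of_not_prime {x m q : ℕ} (hx2 : 2 ≤ x) (hx : ¬ x.Prime) (hxm : x ≤ 2 * m + 1)
    (hq : q.Prime) (hqx : q ∣ x) : q ≤ m := by
  obtain ⟨t, rfl⟩ := hqx
  have ht1 : t ≠ 1 := fun h => hx (by simpa [h] using hq)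
  have ht0 : t ≠ 0 := by rintro rfl; simp at hx2
  have : 2 ≤ t := by omega
  nlinarith

section
variable {m k : ℕ}

/-- `C(m + k, k)` has no prime factor `≤ m`. -/
def NoSmall (m k : ℕ) : Prop := ∀ q : ℕ, q.Prime → q ≤ m → ¬ q ∣ (m + k).choose k

theorem NoSmall.dvd_of_dvd_mul (h : NoSmall m k) {x y : ℕ}
    (hx : ∀ q : ℕ, q.Prime → q ∣ x → q ≤ m) (hxy : x ∣ y * (m + k).choose k) : x ∣ y :=
  (Nat.coprime_of_dvd fun q hq h1 h2 => h q hq (hx q hq h1) h2).dvd_of_dvd_mul_right hxy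

/-- `(m+1) ⋯ (m+j) C(m+k, k-j) = k ⋯ (k-j+1) C(m+k, k)`, for `j ≤ 4`. -/
theorem step_up (n j : ℕ) (_hj : j < n) :
    (n - j) * n.choose j = (j + 1) * n.choose (j + 1) := by
  rw [mul_comm (j + 1), Nat.choose_succ_right_eq, mul_comm]

theorem step_down (n j : ℕ) :
    (n + 1 - j) * (n + 1).choose j = (n + 1) * n.choose j := by
  rw [mul_comm (n + 1) (n.choose j), Nat.choose_mul_succ_eq, mul_comm]

theorem NoSmall.prime_sum (h : NoSmall m k) (hk : 1 ≤ k) (hkm : k ≤ m) : (m + k).Prime := by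
  by_contra hn
  have h1 : (m + k) ∣ k * (m + k).choose k := by
    obtain ⟨k', rfl⟩ : ∃ k', k = k' + 1 := ⟨k - 1, by omega⟩
    refine ⟨(m + k').choose k', ?_⟩
    rw [show m + (k' + 1) = m + k' + 1 by ring, Nat.add_one_mul_choose_eq, mul_comm]
  have := Nat.le_of_dvd (by omega)
    (h.dvd_of_dvd_mul (fun q hq hqx => small_of_not_prime (by omega) hn (by omega) hq hqx) h1)
  omega

theorem NoSmall.prime_succ (h : NoSmall m k) (hk : 1 ≤ k) (hkm : k ≤ m) : (m + 1).Prime := by
  by_contra hn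
  have h1 : (m + 1) ∣ k * (m + k).choose k := by
    obtain ⟨k', rfl⟩ : ∃ k', k = k' + 1 := ⟨k - 1, by omega⟩
    refine ⟨(m + (k' + 1)).choose k', ?_⟩
    rw [← step_up _ _ (by omega), show m + (k' + 1) - k' = m + 1 by omega]
  have := Nat.le_of_dvd (by omega)
    (h.dvd_of_dvd_mul (fun q hq hqx => small_of_not_prime (by omega) hn (by omega) hq hqx) h1)
  omega

theorem dvd_of_dvd_gcd_parts {d k : ℕ} (h1 : d ∣ k * (k - 1) * (k - 2) * (k - 3))
    (h2 : d ∣ (3 * k + 5) * (k - 2)) (hk : 3 ≤ k) : d ∣ (k - 2) * 560 := by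
  have h3 : d ∣ Nat.gcd ((k - 2) * (3 * k + 5)) ((k - 2) * (k * (k - 1) * (k - 3))) :=
    Nat.dvd_gcd (by rwa [mul_comm]) (by
      rwa [show (k - 2) * (k * (k - 1) * (k - 3)) = k * (k - 1) * (k - 2) * (k - 3) by ring])
  rw [Nat.gcd_mul_left] at h3
  refine h3.trans (Nat.mul_dvd_mul_left _ ?_)
  have a1 : Nat.gcd (3 * k + 5) k ∣ 5 :=
    (Nat.dvd_add_right (Dvd.dvd.mul_left (Nat.gcd_dvd_right _ _) 3)).1 (Nat.gcd_dvd_left _ _)
  have a2 : Nat.gcd (3 * k + 5) (k - 1) ∣ 8 := by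
    refine (Nat.dvd_add_right (Dvd.dvd.mul_left (Nat.gcd_dvd_right _ (k - 1)) 3)).1 ?_
    rw [show 3 * (k - 1) + 8 = 3 * k + 5 by omega]; exact Nat.gcd_dvd_left _ _
  have a3 : Nat.gcd (3 * k + 5) (k - 3) ∣ 14 := by
    refine (Nat.dvd_add_right (Dvd.dvd.mul_left (Nat.gcd_dvd_right _ (k - 3)) 3)).1 ?_
    rw [show 3 * (k - 3) + 14 = 3 * k + 5 by omega]; exact Nat.gcd_dvd_left _ _
  refine (Nat.gcd_mul_right_dvd_mul_gcd _ _ _).trans ?_
  refine (Nat.mul_dvd_mul ((Nat.gcd_mul_right_dvd_mul_gcd _ _ _).trans (Nat.mul_dvd_mul a1 a2)) a3).trans ?_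
  norm_num

/-- The two roots of `M (M + k - 3) = 3 k (k - 1)` that survive `(M + 2) ∣ (3 k + 5)(k - 2)`. -/
theorem small_solutions {M k : ℕ} (hk : 5 ≤ k) (hodd : k % 2 = 1) (he : M * (M + k - 3) = 3 * (k * (k - 1)))
    (hd : M + 2 ∣ (k - 2) * 560) : k = 9 ∧ M = 12 ∨ k = 161 ∧ M = 210 := by
  have hlo : 13027 * k ≤ 10000 * M := by
    by_contra hc
    have e : ((M : ℤ) * (M + k - 3)) = 3 * (k * (k - 1)) := by
      have := congrArg ((↑) : ℕ → ℤ) he
      push_cast [Nat.cast_sub (show 3 ≤ M + k by omega), Nat.cast_sub (show 1 ≤ k by omega)] at this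
      linarith
    have : (10000 * (M : ℤ)) < 13027 * k := by exact_mod_cast (not_le.1 hc)
    nlinarith
  have hhi : 10000 * M ≤ 13028 * k + 4000 := by
    by_contra hc
    have e : ((M : ℤ) * (M + k - 3)) = 3 * (k * (k - 1)) := by
      have := congrArg ((↑) : ℕ → ℤ) he
      push_cast [Nat.cast_sub (show 3 ≤ M + k by omega), Nat.cast_sub (show 1 ≤ k by omega)] at this
      linarith
    have : 13028 * (k : ℤ) + 4000 < 10000 * (M : ℤ) := by exact_mod_cast (not_le.1 hc)
    nlinarith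
  obtain ⟨s, hs⟩ := hd
  have hk2 : k ≤ 2000 := by
    rcases Nat.lt_or_ge s 430 with h | h
    · by_contra hc
      have : (M + 2) * s ≤ (M + 2) * 429 := Nat.mul_le_mul_left _ (by omega)
      omega
    · have : (M + 2) * 430 ≤ (M + 2) * s := Nat.mul_le_mul_left _ h
      omega
  have key : ∀ k : ℕ, k < 2001 → ∀ j : ℕ, j < 3 → k % 2 = 1 →
      (13027 * k / 10000 + j) * (13027 * k / 10000 + j + k - 3) = 3 * (k * (k - 1)) →
      k ≤ 1 ∨ k = 9 ∧ j = 1 ∨ k = 161 ∧ j = 1 := by
    decide +kernel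
  rcases key k (by omega) (M - 13027 * k / 10000) (by omega) hodd
    (by rwa [Nat.add_sub_cancel' (by omega)]) with h | ⟨rfl, hj⟩ | ⟨rfl, hj⟩
  · omega
  · exact Or.inl ⟨rfl, by omega⟩
  · exact Or.inr ⟨rfl, by omega⟩

theorem even_choose_19 : 2 ∣ Nat.choose 19 9 := by decide +kernel

theorem even_choose_43 : 2 ∣ Nat.choose 43 15 := by
  rw [Nat.choose_eq_factorial_div_factorial (by norm_num)]; decide +kernel

/-- For `2 ≤ k ≤ m` some prime `≤ m` divides `C(m + k, k)`, unless `m = 4` and `k = 3`. -/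
theorem NoSmall.eq_four_three (h : NoSmall m k) (hk : 2 ≤ k) (hkm : k ≤ m) : m = 4 ∧ k = 3 := by
  have hn := h.prime_sum (by omega) hkm
  have hp := h.prime_succ (by omega) hkm
  have hm2 : m % 2 = 0 := by
    rcases hp.eq_two_or_odd with h' | h' <;> omega
  have hn2 : (m + k) % 2 = 1 := by
    rcases hn.eq_two_or_odd with h' | h' <;> omega
  obtain ⟨a, rfl⟩ : ∃ a, k = a + 3 := ⟨k - 3, by omega⟩
  have hm4 : 4 ≤ m := by omega
  set C := (m + (a + 3)).choose (a + 3) with hC
  -- downward from the top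
  have d1 : (m + (a + 3)) * (m + (a + 2)).choose (a + 2) = (a + 3) * C := by
    rw [hC, show m + (a + 3) = m + (a + 2) + 1 by ring, Nat.add_one_mul_choose_eq, mul_comm]
  have d2 : (m + (a + 2)) * (m + (a + 1)).choose (a + 2) = m * (m + (a + 2)).choose (a + 2) := by
    rw [show m + (a + 2) = m + (a + 1) + 1 by ring, ← step_down]
    congr 1; omega
  have d3 : (m + (a + 1)) * (m + a).choose (a + 2) = (m - 1) * (m + (a + 1)).choose (a + 2) := by
    rw [show m + (a + 1) = m + a + 1 by ring, ← step_down]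
    congr 1; omega
  -- upward from the bottom
  have u1 : (m + 1) * (m + (a + 3)).choose (a + 2) = (a + 3) * C := by
    rw [hC, ← step_up _ _ (by omega), show m + (a + 3) - (a + 2) = m + 1 by omega]
  have u2 : (m + 2) * (m + (a + 3)).choose (a + 1) = (a + 2) * (m + (a + 3)).choose (a + 2) := by
    rw [← step_up _ _ (by omega), show m + (a + 3) - (a + 1) = m + 2 by omega]
  have hM : m + 2 ∣ (a + 3) * (a + 2) := by
    refine h.dvd_of_dvd_mul (fun q hq hqx => small_of_even (by omega) (by omega) (by omega)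
      (by omega) hq hqx) ⟨(m + 1) * (m + (a + 3)).choose (a + 1), ?_⟩
    linear_combination (a + 2) * u1.symm - (m + 1) * u2
  set N := m + (a + 2) with hN
  have hNd : N ∣ (a + 3) * m := by
    refine h.dvd_of_dvd_mul (fun q hq hqx => small_of_even (by omega) (by omega) (by omega)
      (by omega) hq hqx) ⟨(m + (a + 3)) * (m + (a + 1)).choose (a + 2), ?_⟩
    linear_combination m * d1.symm - (m + (a + 3)) * d2
  have hN' : N ∣ (a + 3) * (a + 2) := by
    refine (Nat.dvd_add_right hNd).1 ⟨a + 3, ?_⟩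
    rw [hN]; ring
  -- their product divides `6 k (k - 1)`
  set K := (a + 3) * (a + 2) with hK
  have hlcm : (m + 2) * N ∣ 6 * K := by
    rw [← Nat.gcd_mul_lcm]
    refine Nat.mul_dvd_mul ?_ (Nat.lcm_dvd hM hN')
    set g := Nat.gcd (m + 2) N
    have hga : g ∣ a := by
      have h1 : g ∣ m + 2 + a := by
        rw [show m + 2 + a = N by omega]; exact Nat.gcd_dvd_right _ _
      exact (Nat.dvd_add_right (Nat.gcd_dvd_left _ _)).1 h1
    have h2 : g ∣ K := (Nat.gcd_dvd_left _ _).trans hM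
    rw [show K = a * (a + 5) + 6 by rw [hK]; ring] at h2
    exact (Nat.dvd_add_right (hga.mul_right _)).1 h2
  obtain ⟨c, hc⟩ := hlcm
  have hbig : 2 * K < (m + 2) * N := by rw [hK, hN]; nlinarith
  have hc12 : c = 1 ∨ c = 2 := by
    rcases Nat.lt_or_ge c 3 with h3 | h3
    · rcases Nat.eq_zero_or_pos c with rfl | h0
      · have : 0 < K := by positivity
        omega
      · omega
    · have : (m + 2) * N * 3 ≤ (m + 2) * N * c := Nat.mul_le_mul_left _ h3
      omega
  have hKz : (K : ℤ) = (a + 3) * (a + 2) := by rw [hK]; push_cast; ring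
  have hNz : (N : ℤ) = m + a + 2 := by rw [hN]; push_cast; ring
  have hcz : (6 : ℤ) * K = (m + 2) * N * c := by exact_mod_cast hc
  rcases hc12 with rfl | rfl
  · -- `M = 2 k`
    have hm : m = 2 * a + 4 := by
      rw [hKz, hNz] at hcz
      push_cast at hcz
      have : ((m : ℤ) - (2 * a + 4)) * (m + 3 * a + 8) = 0 := by linear_combination -hcz
      rcases mul_eq_zero.1 this with h' | h' <;> omega
    rcases Nat.eq_zero_or_pos a with rfl | ha
    · omega
    obtain ⟨b, rfl⟩ : ∃ b, a = b + 1 := ⟨a - 1, by omega⟩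
    subst hm
    set x := 3 * (b + 1) + 4
    have hx : x ∣ (b + 4) * ((2 * (b + 1) + 4) * ((2 * (b + 1) + 3) * (2 * (b + 1) + 2))) := by
      have d4 : (2 * (b + 1) + 4 + (b + 1)) * (2 * (b + 1) + 4 + b).choose (b + 1 + 2) =
          (2 * (b + 1) + 2) * (2 * (b + 1) + 4 + (b + 1)).choose (b + 1 + 2) := by
        rw [show 2 * (b + 1) + 4 + (b + 1) = 2 * (b + 1) + 4 + b + 1 by ring, ← step_down]
        congr 1; omega
      refine h.dvd_of_dvd_mul (fun q hq hqx => small_of_even (by omega) (by omega) (by omega)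
        (by omega) hq hqx) ⟨(2 * (b + 1) + 4 + (b + 1 + 3)) * (2 * (b + 1) + 4 + (b + 1 + 2)) *
          (2 * (b + 1) + 4 + (b + 1 + 1)) * (2 * (b + 1) + 4 + b).choose (b + 1 + 2), ?_⟩
      rw [show 2 * (b + 1) + 4 - 1 = 2 * (b + 1) + 3 by omega] at d3
      have hxe : x = 2 * (b + 1) + 4 + (b + 1) := by omega
      rw [hxe]
      linear_combination ((2 * (b + 1) + 4) * ((2 * (b + 1) + 3) * (2 * (b + 1) + 2))) * d1.symm -
        ((2 * (b + 1) + 4 + (b + 1 + 3)) * ((2 * (b + 1) + 3) * (2 * (b + 1) + 2))) * d2 -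
        ((2 * (b + 1) + 4 + (b + 1 + 3)) * (N * (2 * (b + 1) + 2))) * d3 -
        ((2 * (b + 1) + 4 + (b + 1 + 3)) * (N * (2 * (b + 1) + 4 + (b + 1 + 1)))) * d4
    have hs : x ∣ 40 := by
      refine dvd_trans (Nat.dvd_gcd dvd_rfl hx) ?_
      refine (Nat.gcd_mul_right_dvd_mul_gcd _ _ _).trans ?_
      have g1 : Nat.gcd x (b + 4) ∣ 5 := by
        refine (Nat.dvd_add_right (Nat.gcd_dvd_left x (b + 4))).1 ?_
        rw [show x + 5 = 3 * (b + 4) by omega]; exact Dvd.dvd.mul_left (Nat.gcd_dvd_right _ _) 3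
      have g2 : Nat.gcd x (2 * (b + 1) + 4) ∣ 4 := by
        refine (Nat.dvd_add_right (Dvd.dvd.mul_left (Nat.gcd_dvd_left x _) 2)).1 ?_
        rw [show 2 * x + 4 = 3 * (2 * (b + 1) + 4) by omega]
        exact Dvd.dvd.mul_left (Nat.gcd_dvd_right _ _) 3
      have g3 : Nat.gcd x (2 * (b + 1) + 3) ∣ 1 := by
        refine (Nat.dvd_add_right (Dvd.dvd.mul_left (Nat.gcd_dvd_left x _) 2)).1 ?_
        rw [show 2 * x + 1 = 3 * (2 * (b + 1) + 3) by omega]
        exact Dvd.dvd.mul_left (Nat.gcd_dvd_right _ _) 3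
      have g4 : Nat.gcd x (2 * (b + 1) + 2) ∣ 2 := by
        refine (Nat.dvd_add_right (Dvd.dvd.mul_left (Nat.gcd_dvd_right x _) 3)).1 ?_
        rw [show 3 * (2 * (b + 1) + 2) + 2 = 2 * x by omega]
        exact Dvd.dvd.mul_left (Nat.gcd_dvd_left _ _) 2
      refine (Nat.mul_dvd_mul g1 ((Nat.gcd_mul_right_dvd_mul_gcd _ _ _).trans
        (Nat.mul_dvd_mul g2 ((Nat.gcd_mul_right_dvd_mul_gcd _ _ _).trans
          (Nat.mul_dvd_mul g3 g4))))).trans ?_
      norm_num
    have hb : b ≤ 11 := by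
      have := Nat.le_of_dvd (by norm_num) hs
      omega
    have hs' : 3 * (b + 1) + 4 ∣ 40 := hs
    clear_value x C N K
    interval_cases b <;> first
      | omega
      | (exfalso; norm_num at hs'; done)
      | (exfalso; revert hp; norm_num; done)
      | (exfalso; exact h 2 Nat.prime_two (by norm_num) even_choose_43)
  · -- `M (M + k - 3) = 3 k (k - 1)`
    exfalso
    have he : (m + 2) * (m + 2 + (a + 3) - 3) = 3 * ((a + 3) * (a + 3 - 1)) := by
      rw [show m + 2 + (a + 3) - 3 = N by omega, show a + 3 - 1 = a + 2 by omega, ← hK]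
      linarith
    rcases Nat.lt_or_ge a 2 with ha | ha
    · rw [show m + 2 + (a + 3) - 3 = m + 2 + a by omega, show a + 3 - 1 = a + 2 by omega] at he
      have : m ≤ 8 := by nlinarith
      interval_cases a <;> interval_cases m <;> omega
    obtain ⟨b, rfl⟩ : ∃ b, a = b + 2 := ⟨a - 2, by omega⟩
    have hD : m + 4 ∣ (b + 5) * (b + 4) * (b + 3) * (b + 2) := by
      have u3 : (m + 3) * (m + (b + 2 + 3)).choose (b + 2) =
          (b + 3) * (m + (b + 2 + 3)).choose (b + 3) := by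
        rw [← step_up _ _ (by omega), show m + (b + 2 + 3) - (b + 2) = m + 3 by omega]
      have u4 : (m + 4) * (m + (b + 2 + 3)).choose (b + 1) =
          (b + 2) * (m + (b + 2 + 3)).choose (b + 2) := by
        rw [← step_up _ _ (by omega), show m + (b + 2 + 3) - (b + 1) = m + 4 by omega]
      refine h.dvd_of_dvd_mul (fun q hq hqx => small_of_even (by omega) (by omega) (by omega)
        (by omega) hq hqx) ⟨(m + 1) * (m + 2) * (m + 3) * (m + (b + 2 + 3)).choose (b + 1), ?_⟩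
      linear_combination ((b + 4) * (b + 3) * (b + 2)) * u1.symm -
        ((m + 1) * ((b + 3) * (b + 2))) * u2 - ((m + 1) * ((m + 2) * (b + 2))) * u3 -
        ((m + 1) * ((m + 2) * (m + 3))) * u4
    have hD2 : m + 2 + 2 ∣ (3 * (b + 5) + 5) * (b + 3) := by
      refine Dvd.intro (m + b + 2) ?_
      have hz : ((m : ℤ) + 2) * (m + b + 4) = 3 * ((b + 5) * (b + 4)) := by
        rw [hKz, hNz] at hcz; push_cast at hcz; linarith
      have : ((m : ℤ) + 2 + 2) * (m + b + 2) = (3 * (b + 5) + 5) * (b + 3) := by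
        linear_combination hz
      exact_mod_cast this
    have hd := dvd_of_dvd_gcd_parts (d := m + 2 + 2) (k := b + 2 + 3)
      (by simpa [show b + 2 + 3 - 1 = b + 4 by omega, show b + 2 + 3 - 2 = b + 3 by omega,
        show b + 2 + 3 - 3 = b + 2 by omega, show b + 2 + 3 = b + 5 by omega] using hD)
      (by simpa [show b + 2 + 3 - 2 = b + 3 by omega, show b + 2 + 3 = b + 5 by omega] using hD2)
      (by omega)
    rcases small_solutions (by omega) (by omega) he hd with ⟨hb, hm⟩ | ⟨hb, hm⟩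
    · obtain rfl : b = 4 := by omega
      obtain rfl : m = 10 := by omega
      exact h 2 Nat.prime_two (by norm_num) even_choose_19
    · obtain rfl : m = 208 := by omega
      norm_num at hp

end

end CfsgLib.HallSym
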