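import Cfsg.Agent.Lib.HallSym.Basic

/-!
# Transitive groups of prime degree `n` and order `p ^ k * n`

Such a group has no nontrivial element fixing two points.
-/

set_option autoImplicit false
set_option linter.unusedSectionVars false

namespace CfsgLib.HallSym

open MulAction

theorem normalizer_grows {G : Type*} [Group G] [Finite G] {p : ℕ} [Fact p.Prime] {D S : Subgroup G}
    (hS : IsPGroup p S) (hle : D ≤ S) (hne : D ≠ S) :
    ∃ u ∈ S, u ∉ D ∧ u ∈ Subgroup.normalizer (D : Set G) := by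
  have : Group.IsNilpotent S := hS.isNilpotent
  have hlt : D.subgroupOf S < ⊤ := lt_top_iff_ne_top.2 fun h =>
    hne (le_antisymm hle (Subgroup.subgroupOf_eq_top.1 h))
  obtain ⟨u, hu, huD⟩ := SetLike.exists_of_lt (Group.normalizerCondition_of_isNilpotent _ hlt)
  refine ⟨u.1, u.2, huD, Subgroup.mem_normalizer_iff.2 fun h => ⟨fun hh => ?_, fun hh => ?_⟩⟩
  · exact (Subgroup.mem_normalizer_iff.1 hu ⟨h, hle hh⟩).1 hh
  · have hhS : h ∈ S := by
      have := S.mul_mem (S.mul_mem (S.inv_mem u.2) (hle hh)) u.2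
      simpa [mul_assoc] using this
    exact (Subgroup.mem_normalizer_iff.1 hu ⟨h, hhS⟩).2 hh

theorem card_eq_pow {G : Type*} [Group G] [Finite G] (N : Subgroup G) {p n : ℕ}
    (hG : ∀ r : ℕ, r.Prime → r ∣ Nat.card G → r = p ∨ r = n) (hN : ¬ n ∣ Nat.card N) :
    ∃ k, Nat.card N = p ^ k := by
  refine ⟨_, Nat.eq_prime_pow_of_unique_prime_dvd Nat.card_pos.ne' fun {r} hr hd => ?_⟩
  rcases hG r hr (hd.trans N.card_subgroup_dvd_card) with h | rfl
  · exact h
  · exact absurd hd hN

theorem no_two_fixed {α : Type} [Fintype α] [DecidableEq α] (H : Subgroup (Equiv.Perm α))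
    (htr : ∀ x y : α, ∃ h ∈ H, h x = y) (hn : (Fintype.card α).Prime) {p : ℕ} (hp : p.Prime)
    (hpn : p ≠ Fintype.card α)
    (hpi : ∀ r : ℕ, r.Prime → r ∣ Nat.card H → r = p ∨ r = Fintype.card α)
    {g : Equiv.Perm α} (hg : g ∈ H) (hg1 : g ≠ 1) {a b : α} (hab : a ≠ b) (ha : g a = a)
    (hb : g b = b) : False := by
  classical
  have : Fact p.Prime := ⟨hp⟩
  have : Fact (Fintype.card α).Prime := ⟨hn⟩
  have : IsPretransitive H α := ⟨fun x y => by
    obtain ⟨h, hh, he⟩ := htr x y; exact ⟨⟨h, hh⟩, he⟩⟩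
  set n := Fintype.card α with hndef
  let S : α → Subgroup H := fun x => stabilizer H x
  have hS : ∀ x, Nat.card (S x) * n = Nat.card H := fun x => by
    rw [hndef, ← Nat.card_eq_fintype_card, ← index_stabilizer_of_transitive H x,
      Subgroup.card_mul_index]
  have hfac : Nat.card H ∣ n.factorial := by
    have := H.card_subgroup_dvd_card
    rwa [Nat.card_perm, Nat.card_eq_fintype_card (α := α)] at this
  obtain ⟨n', hn'⟩ : ∃ n', n = n' + 1 := ⟨n - 1, by have := hn.pos; omega⟩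
  have hSn : ∀ x, ¬ n ∣ Nat.card (S x) := fun x hd => by
    have h2 : n * Nat.card (S x) ∣ n * n'.factorial := by
      rw [mul_comm, hS]
      rwa [hn', Nat.factorial_succ, ← hn'] at hfac
    have := (Nat.Prime.dvd_factorial hn).1 (hd.trans (Nat.dvd_of_mul_dvd_mul_left hn.pos h2))
    omega
  obtain ⟨k, hk⟩ := card_eq_pow (S a) hpi (hSn a)
  have hSk : ∀ x, Nat.card (S x) = p ^ k := fun x =>
    (Nat.eq_of_mul_eq_mul_right hn.pos ((hS x).trans (hS a).symm)).trans hk
  have hSp : ∀ x, IsPGroup p (S x) := fun x => IsPGroup.of_card (hSk x)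
  have hfact : (Nat.card H).factorization p = k := by
    rw [← hS a, hk, Nat.factorization_mul (pow_ne_zero _ hp.ne_zero) hn.ne_zero, Finsupp.add_apply,
      hp.factorization_pow, Finsupp.single_eq_same,
      Nat.factorization_eq_zero_of_not_dvd fun h => hpn ((Nat.prime_dvd_prime_iff_eq hp hn).1 h),
      add_zero]
  let P : Sylow p H := Sylow.ofCard (S a) (by rw [hfact, hk])
  obtain ⟨⟨x, y⟩, hxy, hmax⟩ := (Finset.univ : Finset α).offDiag.exists_max_image
    (fun q => Nat.card (S q.1 ⊓ S q.2 : Subgroup H)) ⟨(a, b), by simp [hab]⟩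
  replace hxy : x ≠ y := by simpa using hxy
  set D := S x ⊓ S y with hD
  have hD1 : D ≠ ⊥ := by
    intro hbot
    have h1 := hmax (a, b) (by simp [hab])
    simp only at h1
    rw [hbot, Subgroup.card_bot] at h1
    have h2 : (⟨g, hg⟩ : H) ∈ S a ⊓ S b := ⟨ha, hb⟩
    rw [Subgroup.eq_bot_of_card_le _ h1, Subgroup.mem_bot] at h2
    exact hg1 (congrArg Subtype.val h2)
  set N := Subgroup.normalizer (D : Set H) with hN
  have hnN : ¬ n ∣ Nat.card N := by
    intro hd
    obtain ⟨c, hc⟩ := exists_prime_orderOf_dvd_card' n hd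
    have hord : orderOf c.1.1 = n := by rw [Subgroup.orderOf_coe, Subgroup.orderOf_coe, hc]
    have hcyc : c.1.1.IsCycle := Equiv.Perm.isCycle_of_prime_order'' hn hord
    have hsupp : c.1.1.support = Finset.univ :=
      Finset.eq_univ_of_card _ (hcyc.orderOf.symm.trans hord)
    refine hD1 ((Subgroup.eq_bot_iff_forall _).2 fun d hd => ?_)
    refine Subtype.ext (Equiv.ext fun z => ?_)
    obtain ⟨i, hi⟩ := hcyc.exists_zpow_eq (x := x) (y := z)
      (Equiv.Perm.mem_support.1 (hsupp ▸ Finset.mem_univ x))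
      (Equiv.Perm.mem_support.1 (hsupp ▸ Finset.mem_univ z))
    have hm : (c.1 ^ i)⁻¹ * d * (c.1 ^ i) ∈ D :=
      (Subgroup.mem_normalizer_iff''.1 (N.zpow_mem c.2 i) d).1 hd
    have hfix : ((c.1 ^ i)⁻¹ * d * (c.1 ^ i)) • x = x := hm.1
    rw [mul_smul, mul_smul, inv_smul_eq_iff] at hfix
    have e : (c.1 ^ i) • x = z := by
      show ((c.1 ^ i : H) : Equiv.Perm α) x = z
      simpa using hi
    rw [e] at hfix
    exact hfix
  obtain ⟨k', hk'⟩ := card_eq_pow N hpi hnN
  obtain ⟨Q, hQ⟩ := (IsPGroup.of_card hk').exists_le_sylow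
  obtain ⟨t, ht⟩ := exists_smul_eq H P Q
  have hQz : (Q : Subgroup H) = S (t • a) := by
    rw [← ht, Sylow.coe_subgroup_smul]
    exact (stabilizer_smul_eq_stabilizer_map_conj t a).symm
  set z := t • a with hz
  have hNz : N ≤ S z := hQz ▸ hQ
  have hDz : D ≤ S z := Subgroup.le_normalizer.trans hNz
  have grow : ∀ w : α, D ≤ S w → D ≠ S w → z = w := fun w hle hne => by
    obtain ⟨u, huS, huD, huN⟩ := normalizer_grows (hSp w) hle hne
    by_contra hzw
    have hlt : D < S z ⊓ S w := lt_of_le_of_ne (le_inf hDz hle) fun e =>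
      huD (e ▸ (⟨hNz huN, huS⟩ : u ∈ S z ⊓ S w))
    have h1 : Nat.card (S z ⊓ S w : Subgroup H) ≤ Nat.card D := hmax (z, w) (by simp [hzw])
    exact hlt.ne (Subgroup.eq_of_le_of_card_ge hlt.le h1)
  have hsame : ∀ v w : α, D = S v → D ≤ S w → S w = D := fun v w hv hle => by
    refine (Subgroup.eq_of_le_of_card_ge hle ?_).symm
    rw [hv, hSk, hSk]
  have hboth : S x = D ∧ S y = D := by
    by_cases h1 : D = S x
    · exact ⟨h1.symm, hsame x y h1 inf_le_right⟩
    by_cases h2 : D = S y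
    · exact ⟨hsame y x h2 inf_le_left, h2.symm⟩
    exact absurd ((grow x inf_le_left h1).symm.trans (grow y inf_le_right h2)) hxy
  obtain ⟨h, hh, hhx⟩ := htr x y
  have hhN : (⟨h, hh⟩ : H) ∈ N := by
    have e : S y = (S x).map (MulAut.conj (⟨h, hh⟩ : H)).toMonoidHom := by
      show stabilizer H y = _
      rw [← hhx]
      exact stabilizer_smul_eq_stabilizer_map_conj (⟨h, hh⟩ : H) x
    rw [hboth.1, hboth.2] at e
    refine Subgroup.mem_normalizer_iff.2 fun d => ⟨fun hd => ?_, fun hd => ?_⟩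
    · rw [e]; exact ⟨d, hd, rfl⟩
    · rw [e] at hd
      obtain ⟨d', hd', he⟩ := hd
      obtain rfl : d' = d := (MulAut.conj (⟨h, hh⟩ : H)).injective he
      exact hd'
  have hND : D = N := by
    refine Subgroup.eq_of_le_of_card_ge Subgroup.le_normalizer ?_
    rw [← hboth.1, hSk]
    exact (hSk z).symm ▸ Subgroup.card_le_of_le hNz
  rw [← hND, ← hboth.1] at hhN
  exact hxy ((hhN : h x = x).symm.trans hhx)

end CfsgLib.HallSym
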