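import Cfsg.Agent.Lib.HallSym.Binom
import Cfsg.Agent.Lib.HallSym.PrimeDegree
import Cfsg.Agent.Lib.PermGroup.PrimeCycleGen

/-!
# Classification of the nontrivial Hall subgroups of symmetric and alternating groups
-/

set_option autoImplicit false
set_option linter.unusedSectionVars false

namespace CfsgLib.HallSym

open Equiv Equiv.Perm MulAction

/-- At least two primes of `π` and at least one prime outside `π` are `≤ n`. -/
def T (π : Set ℕ) (n : ℕ) : Prop :=
  (∃ r s : ℕ, r.Prime ∧ s.Prime ∧ r ≠ s ∧ r ∈ π ∧ s ∈ π ∧ r ≤ n ∧ s ≤ n) ∧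
    ∃ r : ℕ, r.Prime ∧ r ≤ n ∧ r ∉ π

/-- The three kinds of Hall subgroups. -/
def Std (π : Set ℕ) (n a : ℕ) (pr : Bool) : Prop :=
  (n.Prime ∧ (∀ r : ℕ, r.Prime → r ≤ n → (r ∈ π ↔ r < n)) ∧ a + 1 = n ∧ pr = false) ∨
  (n = 7 ∧ (∀ r : ℕ, r.Prime → r ≤ n → (r ∈ π ↔ (r = 2 ∨ r = 3))) ∧ a = 4 ∧ pr = false) ∨
  (n = 8 ∧ (∀ r : ℕ, r.Prime → r ≤ n → (r ∈ π ↔ (r = 2 ∨ r = 3))) ∧ a = 4 ∧ pr = true)

theorem T.five_le {π : Set ℕ} {n : ℕ} (hT : T π n) : 5 ≤ n := by
  obtain ⟨⟨r, s, hr, hs, hne, hrπ, hsπ, hrn, hsn⟩, t, ht, htn, htπ⟩ := hT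
  by_contra h
  have key : ∀ q : ℕ, q.Prime → q ≤ n → q = 2 ∨ q = 3 := by
    intro q hq hqn
    have := hq.two_le
    rcases (show q = 2 ∨ q = 3 ∨ q = 4 by omega) with h' | h' | rfl
    · exact Or.inl h'
    · exact Or.inr h'
    · exact absurd hq (by decide)
  rcases key r hr hrn with rfl | rfl <;> rcases key s hs hsn with rfl | rfl <;>
    rcases key t ht htn with rfl | rfl <;> tauto

variable {α : Type} [Fintype α] [DecidableEq α]

theorem dvd_card_alt {r : ℕ} (hr : r.Prime) (hrn : r ≤ Fintype.card α)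
    (h4 : 4 ≤ Fintype.card α) : r ∣ Nat.card (alternatingGroup α) := by
  have : Nontrivial α := Fintype.one_lt_card_iff_nontrivial.1 (by omega)
  have h2 : 2 * Nat.card (alternatingGroup α) = (Fintype.card α).factorial := by
    rw [Nat.card_eq_fintype_card, two_mul_card_alternatingGroup, Fintype.card_perm]
  rcases eq_or_ne r 2 with rfl | h
  · have : 2 * 2 ∣ 2 * Nat.card (alternatingGroup α) :=
      h2 ▸ (show 2 * 2 ∣ Nat.factorial 4 by decide).trans (Nat.factorial_dvd_factorial h4)
    exact Nat.dvd_of_mul_dvd_mul_left (by norm_num) this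
  · refine ((Nat.coprime_primes hr Nat.prime_two).2 h).dvd_of_dvd_mul_left ?_
    rw [h2]; exact hr.dvd_factorial.2 hrn

variable {π : Set ℕ} {H X : Subgroup (Perm α)}

theorem not_alt_le (h : Cfsg.IsPiHallOf π H X) (hT : T π (Fintype.card α)) :
    ¬ alternatingGroup α ≤ H := fun hle => by
  have h4 := hT.five_le
  obtain ⟨-, r, hr, hrn, hrπ⟩ := hT
  exact hrπ (h.2.1 r hr ((dvd_card_alt hr hrn (by omega)).trans (Subgroup.card_dvd_of_le hle)))

theorem small_index (hX : Par X) (h : Cfsg.IsPiHallOf π H X) (hT : T π (Fintype.card α))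
    (hlt : H.relIndex X < Fintype.card α) : False := by
  have h5 := hT.five_le
  have hne : H ⊓ alternatingGroup α ≠ alternatingGroup α := fun e =>
    not_alt_le h hT (e ▸ inf_le_left)
  have h1 := CfsgLib.PrimeCycleGen.index_alt_large h5 (inf_le_right) hne
  rw [Subgroup.inf_relIndex_right] at h1
  have h2 : H.relIndex (alternatingGroup α) ≤ H.relIndex X :=
    Subgroup.relIndex_le_of_le_right hX.alt_le Subgroup.index_ne_zero_of_finite
  have : Nontrivial α := Fintype.one_lt_card_iff_nontrivial.1 (by omega)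
  have h3 : 2 * Nat.card (alternatingGroup α) = (Fintype.card α).factorial := by
    rw [Nat.card_eq_fintype_card, two_mul_card_alternatingGroup, Fintype.card_perm]
  rw [h3] at h1
  have h4 := Nat.le_of_dvd (Nat.factorial_pos _) h1
  have h6 : (H.relIndex (alternatingGroup α)).factorial ≤ (Fintype.card α - 1).factorial :=
    Nat.factorial_le (by omega)
  have h7 : (Fintype.card α - 1).factorial < (Fintype.card α).factorial :=
    (Nat.factorial_lt (by omega)).2 (by omega)
  omega

theorem choose_no_pi (hX : Par X) (h : Cfsg.IsPiHallOf π H X) (h3 : 3 ≤ Fintype.card α)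
    {R : Finset α} (hR : H ≤ stdK false R) {q : ℕ} (hq : q.Prime) (hqπ : q ∈ π) :
    ¬ q ∣ (Fintype.card α).choose R.card := fun hd => by
  refine h.2.2 q hq hqπ (hd.trans ?_)
  rw [← index_stdK_false, ← hX.relIndex_inf (exists_odd_mem false R h3)]
  exact Subgroup.relIndex_dvd_of_le_left X (le_inf h.1 hR)

theorem transitive_of_eight {β : Type} [Fintype β] [DecidableEq β] {X H : Subgroup (Perm β)}
    (hX : Par X) (h : Cfsg.IsPiHallOf π H X) (hn : Fintype.card β = 8) (h2π : 2 ∈ π) (b c : β) :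
    ∃ g ∈ H, g b = c := by
  classical
  by_contra hno
  push Not at hno
  let S : Finset β := Finset.univ.filter fun z => ∃ g ∈ H, g b = z
  have hS : H ≤ stdK false S := fun g hg => mem_stdK_false.2 fun z => by
    simp only [S, Finset.mem_filter, Finset.mem_univ, true_and]
    constructor
    · rintro ⟨k, hk, e⟩
      exact ⟨g⁻¹ * k, H.mul_mem (H.inv_mem hg) hk, by simp [Perm.mul_apply, e]⟩
    · rintro ⟨k, hk, e⟩
      exact ⟨g * k, H.mul_mem hg hk, by simp [Perm.mul_apply, e]⟩
  have hlt : S.card < 8 := by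
    rw [← hn]
    refine Finset.card_lt_univ_of_notMem (x := c) fun hy => ?_
    obtain ⟨g, hg, e⟩ := (Finset.mem_filter.1 hy).2
    exact hno g hg e
  have hpos : 0 < S.card :=
    Finset.card_pos.2 ⟨b, Finset.mem_filter.2 ⟨Finset.mem_univ _, 1, H.one_mem, rfl⟩⟩
  have e2 := choose_no_pi hX h (by omega) hS Nat.prime_two h2π
  rw [hn] at e2
  revert e2
  interval_cases S.card <;> decide

/-- What the induction provides. -/
def IH (π : Set ℕ) (n : ℕ) : Prop :=
  ∀ m < n, ∀ (β : Type) [Fintype β] [DecidableEq β], Fintype.card β = m →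
    ∀ X H : Subgroup (Perm β), Par X → Cfsg.IsPiHallOf π H X → T π m →
      ∃ a pr, ∃ R : Finset β, Std π m a pr ∧ R.card = a ∧ H ≤ stdK pr R

/-- The intransitive case. -/
theorem split (hIH : IH π (Fintype.card α)) (hX : Par X) (h : Cfsg.IsPiHallOf π H X)
    (hT : T π (Fintype.card α)) (R : Finset α) (hR : H ≤ stdK false R)
    (hb : 0 < Fintype.card α - R.card) (hab : Fintype.card α - R.card ≤ R.card) :
    Std π (Fintype.card α) R.card false := by
  have h5 := hT.five_le
  have hRn : R.card ≤ Fintype.card α := R.card_le_univ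
  set a := R.card with ha
  set n := Fintype.card α with hn
  have hC : ∀ q : ℕ, q.Prime → q ∈ π → ¬ q ∣ n.choose a :=
    fun q hq hqπ => choose_no_pi hX h (by omega) hR hq hqπ
  have hqa : ∀ q : ℕ, q.Prime → q ∈ π → q ≤ n → q ≤ a := by
    intro q hq hqπ hqn
    rcases eq_or_ne q 2 with rfl | h2
    · omega
    obtain ⟨σ, hσ, hcyc, hcard⟩ := exists_cycle_mem hX h hq h2 hqπ hqn
    have hzp : ∀ y z, y ∈ σ.support → z ∈ σ.support → (z ∈ R ↔ y ∈ R) := fun y z hy hz => by
      obtain ⟨i, rfl⟩ := hcyc.exists_zpow_eq (Perm.mem_support.1 hy) (Perm.mem_support.1 hz)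
      exact mem_stdK_false.1 (hR (H.zpow_mem hσ i)) y
    obtain ⟨y, hy⟩ : σ.support.Nonempty := Finset.card_pos.1 (by have := hq.pos; omega)
    by_cases hyR : y ∈ R
    · rw [← hcard]; exact Finset.card_le_card fun z hz => (hzp y z hy hz).2 hyR
    · have : σ.support ⊆ Rᶜ := fun z hz => Finset.mem_compl.2 fun hzR => hyR ((hzp y z hy hz).1 hzR)
      have h1 := Finset.card_le_card this
      rw [Finset.card_compl] at h1
      omega
  obtain ⟨⟨r, s, hr, hs, hne, hrπ, hsπ, hrn, hsn⟩, t, ht, htn, htπ⟩ := hT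
  by_cases hns : ∃ t : ℕ, t.Prime ∧ t ≤ a ∧ t ∉ π
  · exfalso
    have hTa : T π a :=
      ⟨⟨r, s, hr, hs, hne, hrπ, hsπ, hqa r hr hrπ hrn, hqa s hs hsπ hsn⟩, hns⟩
    have h5a := hTa.five_le
    obtain ⟨a', pr, R', hstd, -, -⟩ := hIH a (by omega) {y : α // y ∈ R} (by simp [ha]) _ _
      (par_image hX R) (isPiHallOf_image (isPiHallOf_of_le h inf_le_left (le_inf h.1 hR))) hTa
    rcases hstd with ⟨hap, hiff, -, -⟩ | ⟨ha78, hiff, -, -⟩ | ⟨ha78, hiff, -, -⟩
    · -- `a` prime, `a + 1` divides `b`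
      have h1 : a + 1 ∣ n.choose a * (n - a) :=
        ⟨n.choose (a + 1), by rw [← Nat.choose_succ_right_eq, mul_comm]⟩
      have hodd : a % 2 = 1 := hap.eq_two_or_odd.resolve_left (by omega)
      have h2 : (a + 1).Coprime (n.choose a) := by
        refine Nat.coprime_of_dvd fun q hq hq1 hq2 => ?_
        have hqle : q ≤ a := small_of_even (by omega) (by omega) (by omega) (by omega) hq hq1
        rcases hqle.lt_or_eq with hlt | rfl
        · exact hC q hq ((hiff q hq hqle).2 hlt) hq2
        · exact absurd ((Nat.dvd_add_right dvd_rfl).1 hq1) hq.not_dvd_one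
      have := Nat.le_of_dvd hb (h2.dvd_of_dvd_mul_left h1)
      omega
    all_goals
      have h23 : ¬ 2 ∣ n.choose a ∧ ¬ 3 ∣ n.choose a :=
        ⟨hC 2 Nat.prime_two ((hiff 2 Nat.prime_two (by omega)).2 (Or.inl rfl)),
          hC 3 Nat.prime_three ((hiff 3 Nat.prime_three (by omega)).2 (Or.inr rfl))⟩
      have h16 : n ≤ 16 := by omega
      rw [ha78] at h23 hb hab
      interval_cases n <;> first
        | omega
        | (revert h23; decide +kernel)
  · have hall : ∀ t : ℕ, t.Prime → t ≤ a → t ∈ π := fun t ht hta =>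
      by_contra fun h => hns ⟨t, ht, hta, h⟩
    rcases Nat.lt_or_ge (n - a) 2 with hb1 | hb2
    · have htn' : t = n := by
        rcases Nat.lt_or_ge t n with h1 | h1
        · exact absurd (hall t ht (by omega)) htπ
        · omega
      subst htn'
      refine Or.inl ⟨ht, fun q hq hqn => ⟨fun hqπ => lt_of_le_of_ne hqn ?_, fun hlt => hall q hq (by omega)⟩,
        by omega, rfl⟩
      rintro rfl; exact htπ hqπ
    · have hNS : NoSmall a (n - a) := fun q hq hqa' => by
        rw [Nat.add_sub_cancel' hRn, Nat.choose_symm hRn]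
        exact hC q hq (hall q hq hqa')
      obtain ⟨ha4, hb3⟩ := hNS.eq_four_three hb2 hab
      refine Or.inr (Or.inl ⟨by omega, fun q hq hqn => ⟨fun hqπ => ?_, ?_⟩, ha4, rfl⟩)
      · have := hqa q hq hqπ hqn
        have := hq.two_le
        rcases (show q = 2 ∨ q = 3 ∨ q = 4 by omega) with h' | h' | rfl
        · exact Or.inl h'
        · exact Or.inr h'
        · exact absurd hq (by decide)
      · rintro (rfl | rfl)
        · exact hall 2 hq (by omega)
        · exact hall 3 hq (by omega)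

theorem stab_hall (hX : Par X) (h : Cfsg.IsPiHallOf π H X) (h3 : 3 ≤ Fintype.card α)
    (htr : ∀ x y : α, ∃ g ∈ H, g x = y) (x : α) :
    Cfsg.IsPiHallOf π (H ⊓ stdK false (Finset.univ.erase x))
      (X ⊓ stdK false (Finset.univ.erase x)) := by
  set K := stdK false (Finset.univ.erase x) with hK
  have : IsPretransitive H α := ⟨fun a b => by
    obtain ⟨g, hg, he⟩ := htr a b; exact ⟨⟨g, hg⟩, he⟩⟩
  have hidx : K.index = Fintype.card α := by
    rw [hK, index_stdK_false, Finset.card_erase_of_mem (Finset.mem_univ x), Finset.card_univ,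
      Nat.choose_symm (by omega), Nat.choose_one_right]
  have hHK : (H ⊓ K).relIndex H = Fintype.card α := by
    have e : K.subgroupOf H = stabilizer H x := by
      ext g; exact mem_stdK_erase
    rw [Subgroup.inf_relIndex_left, Subgroup.relIndex, e, index_stabilizer_of_transitive,
      Nat.card_eq_fintype_card]
  have hXK : (X ⊓ K).relIndex X = Fintype.card α := by
    rw [hX.relIndex_inf (exists_odd_mem false _ h3), hidx]
  have hle : H ⊓ K ≤ X ⊓ K := inf_le_inf_right K h.1
  refine ⟨hle, fun p hp hd => h.2.1 p hp (hd.trans (Subgroup.card_dvd_of_le inf_le_left)),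
    fun p hp hπ hd => h.2.2 p hp hπ ?_⟩
  have e1 := Subgroup.relIndex_mul_relIndex _ _ _ hle (inf_le_left (a := X) (b := K))
  have e2 := Subgroup.relIndex_mul_relIndex _ _ _ (inf_le_left (a := H) (b := K)) h.1
  rw [hXK] at e1
  rw [hHK] at e2
  have : (H ⊓ K).relIndex (X ⊓ K) = H.relIndex X :=
    Nat.eq_of_mul_eq_mul_left (show 0 < Fintype.card α by omega) (by rw [e2, mul_comm, e1])
  rwa [← this]

theorem stab_image (hX : Par X) (h : Cfsg.IsPiHallOf π H X) (h3 : 3 ≤ Fintype.card α)
    (htr : ∀ x y : α, ∃ g ∈ H, g x = y) (x : α) :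
    Cfsg.IsPiHallOf π
      (((H ⊓ stdK false (Finset.univ.erase x)).subgroupOf
        (stdK false (Finset.univ.erase x))).map (restrict (Finset.univ.erase x)))
      ((X.subgroupOf (stdK false (Finset.univ.erase x))).map (restrict (Finset.univ.erase x))) :=
  isPiHallOf_image (stab_hall hX h h3 htr x)

theorem eight_pair (hX : Par X) (h : Cfsg.IsPiHallOf π H X) (hn : Fintype.card α = 8)
    (htr : ∀ x y : α, ∃ g ∈ H, g x = y)
    (hπ : ∀ r : ℕ, r.Prime → r ≤ 8 → (r ∈ π ↔ (r = 2 ∨ r = 3))) (x : α) (R : Finset α)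
    (hxR : x ∉ R) (hR4 : R.card = 4)
    (hHR : H ⊓ stdK false (Finset.univ.erase x) ≤ stdK false R) : H ≤ stdK true R := by
  classical
  set K := stdK false (Finset.univ.erase x) with hK
  have htri : ∀ g ∈ H, ∀ a ∈ R, ∀ b ∈ R, ∀ c ∈ R, a ≠ b → b ≠ c →
      swap (g a) (g b) * swap (g b) (g c) ∈ H := by
    intro g hg a ha b hb c hc hab hbc
    have hw : swap a b * swap b c ∈ H := by
      have hY : ∀ p : ℕ, p.Prime → p ∣ Nat.card (X ⊓ K ⊓ stdK false R : Subgroup _) → p ∈ π := by
        intro p hp hd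
        have h1 := hd.trans (Subgroup.card_dvd_of_le inf_le_right)
        rw [card_stdK_false, hR4, hn] at h1
        have : p ≤ 4 := by
          rcases hp.dvd_mul.1 h1 with h2 | h2 <;> exact (hp.dvd_factorial.1 h2)
        have := hp.two_le
        refine (hπ p hp (by omega)).2 ?_
        rcases (show p = 2 ∨ p = 3 ∨ p = 4 by omega) with h' | h' | rfl
        · exact Or.inl h'
        · exact Or.inr h'
        · exact absurd hp (by decide)
      have he := hall_eq_of_pi (stab_hall hX h (by omega) htr x)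
        (inf_le_left (a := X ⊓ K) (b := stdK false R))
        (le_inf (inf_le_inf_right K h.1) hHR) hY
      have hmem : swap a b * swap b c ∈ X ⊓ K ⊓ stdK false R := by
        refine ⟨⟨hX.alt_le ?_, ?_⟩, ?_⟩
        · rw [mem_alternatingGroup, map_mul, sign_swap hab, sign_swap hbc]; rfl
        · have hne : ∀ y ∈ R, x ≠ y := fun y hy e => hxR (e ▸ hy)
          show _ ∈ stdK false (Finset.univ.erase x)
          rw [mem_stdK_erase, Perm.mul_apply, swap_apply_of_ne_of_ne (hne b hb) (hne c hc),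
            swap_apply_of_ne_of_ne (hne a ha) (hne b hb)]
        · refine (stdK false R).mul_mem ?_ ?_ <;>
          · rw [mem_stdK_false]
            intro y
            rw [swap_apply_def]
            split_ifs <;> simp_all
      rw [← he] at hmem
      exact hmem.1
    have e : g * (swap a b * swap b c) * g⁻¹ = swap (g a) (g b) * swap (g b) (g c) := by
      rw [← conj_mul, ← swap_apply_apply, ← swap_apply_apply]
    rw [← e]
    exact H.mul_mem (H.mul_mem hg hw) (H.inv_mem hg)
  intro g hg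
  by_contra hgK
  obtain ⟨hg1, hg2⟩ : (¬ ∀ y, g y ∈ R ↔ y ∈ R) ∧ ¬ ∀ y, g y ∈ R ↔ y ∉ R :=
    ⟨fun h1 => hgK (Or.inl h1), fun h2 => hgK (Or.inr ⟨rfl, h2⟩)⟩
  have himg : (R.image g).card = 4 := by rw [Finset.card_image_of_injective _ g.injective, hR4]
  have hmem : ∀ y, g y ∈ R.image g ↔ y ∈ R := fun y => by simp
  obtain ⟨r1, hr1, hgr1⟩ : ∃ r ∈ R, g r ∈ R := by
    by_contra hc
    push Not at hc
    have e : R.image g = Rᶜ := Finset.eq_of_subset_of_card_le
      (fun y hy => by
        obtain ⟨r, hr, rfl⟩ := Finset.mem_image.1 hy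
        exact Finset.mem_compl.2 (hc r hr))
      (by rw [Finset.card_compl, himg, hR4, hn])
    refine hg2 fun y => ?_
    rw [← hmem y, e, Finset.mem_compl]
    tauto
  obtain ⟨r2, hr2, hgr2⟩ : ∃ r ∈ R, g r ∉ R := by
    by_contra hc
    push Not at hc
    have e : R.image g = R := Finset.eq_of_subset_of_card_le
      (fun y hy => by obtain ⟨r, hr, rfl⟩ := Finset.mem_image.1 hy; exact hc r hr)
      (by rw [himg, hR4])
    exact hg1 fun y => by rw [← hmem y, e]
  obtain ⟨r3, hr3⟩ : ((R.erase r1).erase r2).Nonempty := Finset.card_pos.1 (by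
    have := Finset.pred_card_le_card_erase (s := R.erase r1) (a := r2)
    have := Finset.pred_card_le_card_erase (s := R) (a := r1)
    omega)
  simp only [Finset.mem_erase] at hr3
  obtain ⟨d, hd, e, he, hde⟩ : ∃ d ∈ (R.erase (g r1)).erase (g r3),
      ∃ e ∈ (R.erase (g r1)).erase (g r3), d ≠ e := Finset.one_lt_card.1 (by
    have := Finset.pred_card_le_card_erase (s := R.erase (g r1)) (a := g r3)
    have := Finset.pred_card_le_card_erase (s := R) (a := g r1)
    omega)
  simp only [Finset.mem_erase] at hd he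
  have h12 : r1 ≠ r2 := fun e => hgr2 (e ▸ hgr1)
  have hu := H.mul_mem (htri g hg r2 hr2 r3 hr3.2.2 r1 hr1 (Ne.symm hr3.1) hr3.2.1)
    (htri 1 H.one_mem (g r1) hgr1 d hd.2.2 e he.2.2 (Ne.symm hd.2.1) hde)
  simp only [Perm.one_apply] at hu
  have hu' : [g r2, g r3, g r1, d, e].formPerm ∈ H := by
    simpa [List.formPerm_cons_cons, mul_assoc] using hu
  have hnd : [g r2, g r3, g r1, d, e].Nodup := by
    have hdne : ∀ y ∈ R, g r2 ≠ y := fun y hy e => hgr2 (e ▸ hy)
    simp [g.injective.eq_iff, Ne.symm hr3.1, Ne.symm h12, hr3.2.1, hdne d hd.2.2, hdne e he.2.2,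
      Ne.symm hd.1, Ne.symm he.1, Ne.symm hd.2.1, Ne.symm he.2.1, hde]
  have : Fact (Nat.Prime 5) := ⟨by norm_num⟩
  have hord : orderOf [g r2, g r3, g r1, d, e].formPerm = 5 :=
    orderOf_eq_prime (List.formPerm_pow_length_eq_one_of_nodup _ hnd) fun h1 => by
      have h2 := List.formPerm_apply_head _ _ _ hnd
      rw [h1, Perm.one_apply] at h2
      exact hr3.1 (g.injective h2).symm
  have h5 := h.2.1 5 (by norm_num) (hord ▸ H.orderOf_dvd_natCard hu')
  simp [hπ 5 (by norm_num) (by norm_num)] at h5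

theorem classify (π : Set ℕ) : ∀ n : ℕ, ∀ (α : Type) [Fintype α] [DecidableEq α],
    Fintype.card α = n → ∀ X H : Subgroup (Perm α), Par X → Cfsg.IsPiHallOf π H X → T π n →
      ∃ a pr, ∃ R : Finset α, Std π n a pr ∧ R.card = a ∧ H ≤ stdK pr R := by
  intro n
  induction n using Nat.strongRecOn with
  | ind n ih =>
  intro α _ _ hcard X H hX h hT
  subst hcard
  classical
  have h5 := hT.five_le
  have hIH : IH π (Fintype.card α) := ih
  by_cases htr : ∀ x y : α, ∃ g ∈ H, g x = y
  swap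
  · push Not at htr
    obtain ⟨x, y, hxy⟩ := htr
    let R : Finset α := Finset.univ.filter fun z => ∃ g ∈ H, g x = z
    have hR : H ≤ stdK false R := fun g hg => mem_stdK_false.2 fun z => by
      simp only [R, Finset.mem_filter, Finset.mem_univ, true_and]
      constructor
      · rintro ⟨k, hk, e⟩
        exact ⟨g⁻¹ * k, H.mul_mem (H.inv_mem hg) hk, by simp [Perm.mul_apply, e]⟩
      · rintro ⟨k, hk, e⟩
        exact ⟨g * k, H.mul_mem hg hk, by simp [Perm.mul_apply, e]⟩
    have hlt : R.card < Fintype.card α := by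
      refine Finset.card_lt_univ_of_notMem (x := y) fun hy => ?_
      obtain ⟨g, hg, e⟩ := (Finset.mem_filter.1 hy).2
      exact hxy g hg e
    have hpos : 0 < R.card :=
      Finset.card_pos.2 ⟨x, Finset.mem_filter.2 ⟨Finset.mem_univ _, 1, H.one_mem, rfl⟩⟩
    rcases Nat.lt_or_ge R.card (Fintype.card α - R.card) with h1 | h1
    · refine ⟨_, _, Rᶜ, split hIH hX h hT Rᶜ (by rwa [← stdK_compl]) ?_ ?_, rfl, by rwa [← stdK_compl]⟩ <;>
        rw [Finset.card_compl] <;> omega
    · exact ⟨_, _, R, split hIH hX h hT R hR (by omega) h1, rfl, hR⟩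
  obtain ⟨x⟩ : Nonempty α := Fintype.card_pos_iff.1 (by omega)
  set n := Fintype.card α with hn
  have hnH : n ∣ Nat.card H := by
    have : IsPretransitive H α := ⟨fun a b => by
      obtain ⟨g, hg, he⟩ := htr a b; exact ⟨⟨g, hg⟩, he⟩⟩
    rw [hn, ← Nat.card_eq_fintype_card, ← index_stabilizer_of_transitive H x]
    exact Subgroup.index_dvd_card _
  have himg : Fintype.card {y : α // y ∈ Finset.univ.erase x} = n - 1 := by simp [hn]
  by_cases hT' : T π (n - 1)
  swap
  · obtain ⟨⟨r, s, hr, hs, hne, hrπ, hsπ, hrn, hsn⟩, t, ht, htn, htπ⟩ := hT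
    by_cases htn' : t = n
    · exact absurd (h.2.1 t ht (htn' ▸ hnH)) htπ
    have ht1 : t ≤ n - 1 := by omega
    -- exactly one prime of `π` below `n`
    have huniq : ∀ a b : ℕ, a.Prime → b.Prime → a ∈ π → b ∈ π → a < n → b < n → a = b :=
      fun a b ha hb haπ hbπ han hbn => by_contra fun hne' =>
        hT' ⟨⟨a, b, ha, hb, hne', haπ, hbπ, by omega, by omega⟩, t, ht, ht1, htπ⟩
    obtain ⟨p, hp, hpπ, hpn, hnp⟩ : ∃ p : ℕ, p.Prime ∧ p ∈ π ∧ p < n ∧ n.Prime := by
      rcases hrn.lt_or_eq with h1 | rfl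
      · rcases hsn.lt_or_eq with h2 | rfl
        · exact absurd (huniq r s hr hs hrπ hsπ h1 h2) hne
        · exact ⟨r, hr, hrπ, h1, hs⟩
      · exact ⟨s, hs, hsπ, lt_of_le_of_ne hsn (Ne.symm hne), hr⟩
    exfalso
    have hHn : ∀ q : ℕ, q.Prime → q ∣ Nat.card H → q = p ∨ q = n := fun q hq hd => by
      have hqn : q ≤ n := by
        have h1 : q ∣ n.factorial := by
          have := hd.trans H.card_subgroup_dvd_card
          rwa [Nat.card_perm, Nat.card_eq_fintype_card (α := α)] at this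
        exact hq.dvd_factorial.1 h1
      rcases hqn.lt_or_eq with h1 | h1
      · exact Or.inl (huniq q p hq hp (h.2.1 q hq hd) hpπ h1 hpn)
      · exact Or.inr h1
    have hnodd : n % 2 = 1 := hnp.eq_two_or_odd.resolve_left (by omega)
    have fin : ∀ g ∈ H, g.support.Nonempty → g.support.card + 2 ≤ n → False := by
      intro g hg hne hc
      obtain ⟨a, ha, b, hb, hab⟩ : ∃ a ∈ g.supportᶜ, ∃ b ∈ g.supportᶜ, a ≠ b :=
        Finset.one_lt_card.1 (by rw [Finset.card_compl]; omega)
      exact no_two_fixed H htr hnp hp hpn.ne hHn hg (fun e => by simp [e] at hne) hab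
        (by simpa using ha) (by simpa using hb)
    rcases eq_or_ne p 2 with rfl | hp2
    · rcases eq_or_ne n 5 with h5' | h5'
      · -- degree five
        refine small_index hX h ⟨⟨r, s, hr, hs, hne, hrπ, hsπ, hrn, hsn⟩, t, ht, htn, htπ⟩ ?_
        have h120 : H.relIndex X ∣ 120 := by
          have h1 : H.relIndex X ∣ Nat.card X := ⟨_, ((card_mul_relIndex h.1).symm.trans (mul_comm _ _))⟩
          have h2 := h1.trans X.card_subgroup_dvd_card
          rwa [Nat.card_perm, Nat.card_eq_fintype_card (α := α), ← hn, h5'] at h2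
        have h40 : (H.relIndex X).Coprime 40 := Nat.coprime_of_dvd fun q hq h1 h2 => by
          rcases hq.dvd_mul.1 (show q ∣ 8 * 5 from h2) with h3 | h3
          · obtain rfl := (Nat.prime_dvd_prime_iff_eq hq Nat.prime_two).1
              (hq.dvd_of_dvd_pow (show q ∣ 2 ^ 3 from h3))
            exact h.2.2 2 hq hpπ h1
          · obtain rfl := (Nat.prime_dvd_prime_iff_eq hq (by norm_num)).1 h3
            exact h.2.2 5 hq (h.2.1 5 hq (h5' ▸ hnH)) h1
        have := Nat.le_of_dvd (by norm_num) (h40.dvd_of_dvd_mul_left (show _ ∣ 40 * 3 from h120))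
        omega
      · -- a double transposition
        obtain ⟨g, hg⟩ := (Equiv.Perm.exists_with_cycleType_iff α (m := {2, 2})).2
          ⟨by simp; omega, by simp⟩
        have hgA : g ∈ X := hX.alt_le (by rw [mem_alternatingGroup, sign_of_cycleType, hg]; rfl)
        have hord : orderOf g = 2 := by rw [← lcm_cycleType, hg]; rfl
        obtain ⟨z, -, hz⟩ := exists_conj_mem h hgA hp hpπ hord
        have hc : (z * g * z⁻¹).support.card = 4 := by
          rw [← sum_cycleType, cycleType_conj, hg]; rfl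
        exact fin _ hz (Finset.card_pos.1 (by omega)) (by omega)
    · obtain ⟨σ, hσ, -, hσc⟩ := exists_cycle_mem hX h hp hp2 hpπ hpn.le
      have hpodd : p % 2 = 1 := hp.eq_two_or_odd.resolve_left hp2
      exact fin σ hσ (Finset.card_pos.1 (by have := hp.pos; omega)) (by omega)
  obtain ⟨a, pr, R', hstd, hR', hle⟩ :=
    hIH (n - 1) (by omega) {y : α // y ∈ Finset.univ.erase x} (by simp [hn]) _ _ (par_image hX _) (stab_image hX h (by omega) htr x) hT'
  rcases hstd with ⟨hP, hiff, -, -⟩ | ⟨h7, hiff, ha, hpr⟩ | ⟨h8, hiff, -, -⟩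
  · -- `n - 1` prime: the index divides it
    exfalso
    refine small_index hX h hT (lt_of_le_of_lt (Nat.le_of_dvd (by omega) ?_) (show n - 1 < n by omega))
    have hnp : ¬ n.Prime := fun hp' => by
      rcases hp'.eq_two_or_odd with e | e <;> rcases hP.eq_two_or_odd with e' | e' <;> omega
    have hcop : (H.relIndex X).Coprime (n * (n - 2).factorial) := Nat.coprime_of_dvd fun q hq h1 h2 => by
      rcases hq.dvd_mul.1 h2 with h3 | h3
      · exact h.2.2 q hq (h.2.1 q hq (h3.trans hnH)) h1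
      · have := hq.dvd_factorial.1 h3
        exact h.2.2 q hq ((hiff q hq (by omega)).2 (by omega)) h1
    refine hcop.dvd_of_dvd_mul_right ?_
    have h1 : H.relIndex X ∣ Nat.card X := ⟨_, ((card_mul_relIndex h.1).symm.trans (mul_comm _ _))⟩
    have h2 := h1.trans X.card_subgroup_dvd_card
    rw [Nat.card_perm, Nat.card_eq_fintype_card (α := α), ← hn] at h2
    refine h2.trans (dvd_of_eq ?_)
    obtain ⟨k, hk⟩ : ∃ k, n = k + 2 := ⟨n - 2, by omega⟩
    rw [hk, show k + 2 - 1 = k + 1 by omega, show k + 2 - 2 = k by omega, Nat.factorial_succ,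
      Nat.factorial_succ]
    ring
  · -- degree eight
    subst ha hpr
    have hn8 : n = 8 := by omega
    let R : Finset α := R'.map (Function.Embedding.subtype _)
    have hxR : x ∉ R := fun hx => by
      obtain ⟨y, -, e⟩ := Finset.mem_map.1 hx
      exact (Finset.mem_erase.1 y.2).1 e
    have hiff8 : ∀ r : ℕ, r.Prime → r ≤ 8 → (r ∈ π ↔ (r = 2 ∨ r = 3)) := fun r hr hr8 =>
      hiff r hr (by
        rcases hr8.lt_or_eq with h1 | rfl
        · omega
        · exact absurd hr (by decide))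
    refine ⟨4, true, R, Or.inr (Or.inr ⟨hn8, hn8 ▸ hiff8, rfl, rfl⟩), by simp [R, hR'],
      eight_pair hX h hn8 htr hiff8 x R hxR (by simp [R, hR']) fun g hg => ?_⟩
    have hgK := (Subgroup.mem_inf.1 hg).2
    have h1 := mem_stdK_false.1 (hle ⟨⟨g, hgK⟩, hg, rfl⟩)
    refine mem_stdK_false.2 fun y => ?_
    by_cases hy : y = x
    · subst hy; rw [mem_stdK_erase.1 hgK]
    · have hy' : y ∈ Finset.univ.erase x := by simp [hy]
      have hgy : g y ∈ Finset.univ.erase x := (mem_stdK_false.1 hgK y).2 hy'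
      have h2 := h1 ⟨y, hy'⟩
      change (⟨g y, hgy⟩ : {z // z ∈ Finset.univ.erase x}) ∈ R' ↔ _ at h2
      simpa [R, hy, (Finset.mem_erase.1 hgy).1] using h2
  · -- degree nine
    exfalso
    have hn9 : n = 9 := by omega
    have h2π : 2 ∈ π := (hiff 2 Nat.prime_two (by omega)).2 (Or.inl rfl)
    have h3π : 3 ∈ π := (hiff 3 Nat.prime_three (by omega)).2 (Or.inr rfl)
    have htr' : ∀ b c : α, b ≠ x → c ≠ x → ∃ g ∈ H, g x = x ∧ g b = c := by
      intro b c hb hc
      obtain ⟨k, ⟨g, hg, rfl⟩, e⟩ := transitive_of_eight (β := {y : α // y ∈ Finset.univ.erase x})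
        (par_image hX _) (stab_image hX h (by omega) htr x) (by simp [hn] <;> omega) h2π
        ⟨b, by simp [hb]⟩ ⟨c, by simp [hc]⟩
      exact ⟨g.1, hg.1, mem_stdK_erase.1 g.2, congrArg Subtype.val e⟩
    have h2t : IsPreprimitive H α := by
      refine isPreprimitive_of_is_two_pretransitive (is_two_pretransitive_iff.2 ?_)
      intro a b c d hab hcd
      obtain ⟨g1, hg1, e1⟩ := htr a x
      obtain ⟨g2, hg2, e2⟩ := htr x c
      obtain ⟨g, hg, e3, e4⟩ := htr' (g1 b) (g2⁻¹ d)
        (fun e => hab (g1.injective (e1.trans e.symm)))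
        (fun e => hcd (by rw [← e2, ← e]; simp))
      exact ⟨⟨g2 * g * g1, H.mul_mem (H.mul_mem hg2 hg) hg1⟩, by
        show (g2 * g * g1) a = c
        simp [Perm.mul_apply, e1, e3, e2], by
        show (g2 * g * g1) b = d
        simp [Perm.mul_apply, e4]⟩
    obtain ⟨σ, hσ, -, hc⟩ := exists_cycle_mem hX h Nat.prime_three (by norm_num) h3π (by omega)
    exact not_alt_le h hT (alternatingGroup_le_of_isPreprimitive_of_isThreeCycle_mem h2t
      (card_support_eq_three_iff.1 hc) hσ)

end CfsgLib.HallSym
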